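import Cfsg.Agent.SP7.Defs3
import Cfsg.Agent.Known.PSpAutMain
import Cfsg.Agent.Chev.MultSp
import Cfsg.Agent.Solv.Schur2
import Cfsg.Agent.Class.AltBasis
import Cfsg.Agent.Class.FieldIso

/-!
# The symplectic model: isomorphism with `PSp`, simplicity, trivial Schur multiplier
-/

set_option autoImplicit false
set_option linter.unusedSectionVars false

namespace Cfsg.Lib.SP7

open Subgroup Module Cfsg.Lib.Trans Cfsg.Lib.Gold Cfsg.Lib.Class.Form Cfsg.Lib.Class.FAut
open Cfsg.Lib.UM6 (tT tE VW RR Fx St QW Cf mp Semi fa Mp cx re Ot kk Mx Fr3)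
open Cfsg.Lib.SG2 (Uq Top)
open Cfsg.Lib.Comp (Tw)
open scoped commutatorElement

section Model
variable {F M : Type*} [Field F] [Finite F] [AddCommGroup M] [Module F M] [FiniteDimensional F M]
  {B : M →ₗ[F] M →ₗ[F] F}

namespace LIFT

theorem nondeg (h : Mo B) : LinearMap.BilinForm.Nondegenerate B := by
  refine ⟨fun u hu => h.cls.sep u hu, fun u hu => h.cls.sep u fun v => ?_⟩
  rw [h.cls.sym, hu, map_zero, mul_zero]

theorem rank (h : Mo B) : finrank F M = 2 * kk F M := by
  obtain ⟨m, hm⟩ := Class.even_finrank_of_isAlt (nondeg h) h.alt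
  unfold kk
  omega

theorem iso_Sp (h : Mo B) : Nonempty (sIsom B ≃* Matrix.symplecticGroup (Fin (kk F M)) F) := by
  obtain ⟨g, hg⟩ := Class.exists_equiv_sympForm (nondeg h) h.alt (rank h)
  exact ⟨(sIsomCongr (σ := RingHom.id F) (σ' := RingHom.id F) (B := Class.sympBilin (kk F M) F)
    (B' := B) g fun u v => (hg u v).trans (Class.sympBilin_apply _ u v).symm).symm.trans (Known.spEquivSIsom (kk F M) F).symm⟩

theorem cbot (h : Mo B) : center (sIsom B) = ⊥ := by
  rw [eq_bot_iff]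
  intro g hg
  obtain ⟨a, ha⟩ := h.cls.mem_center_iff.1 hg
  rw [mem_bot]
  refine lin_ext fun x => ?_
  rw [ha, lin_one]
  by_cases x0 : x = 0
  · rw [x0, smul_zero]
  obtain ⟨y, hy⟩ : ∃ y, B x y ≠ 0 := by
    by_contra k
    push Not at k
    exact x0 (h.cls.sep x k)
  have e := lin_isom g x y
  rw [ha, ha] at e
  simp only [map_smul, LinearMap.smul_apply, smul_eq_mul] at e
  have e2 : (a - 1) * (a - 1) = 0 := by
    apply mul_right_cancel₀ hy
    linear_combination e + (B x y - a * B x y) * h.two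
  rw [sub_eq_zero.1 (mul_self_eq_zero.1 e2), one_smul]

theorem three (h : Mo B) : 3 ≤ kk F M := by
  have := h.six
  unfold kk
  omega

end LIFT

theorem Mo.iso_PSp (h : Mo B) : Nonempty (sIsom B ≃* PSp (kk F M) F) := by
  obtain ⟨e⟩ := LIFT.iso_Sp h
  exact ⟨(Class.quotCenterEquivOfEqBot (LIFT.cbot h)).symm.trans (Class.quotCenterEquiv e)⟩

theorem Mo.simple (h : Mo B) : IsSimpleGroup (sIsom B) := by
  classical
  have := Fintype.ofFinite F
  obtain ⟨e⟩ := h.iso_PSp
  have h3 := LIFT.three h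
  have := Class.PSp_isSimpleGroup (F := F) (kk F M) (by omega)
    (Class.spPerfectCond_of_card _ (Or.inl h3))
  exact e.isSimpleGroup

theorem Mo.lift (h : Mo B) (hx : kk F M = 3 → Nat.card F ≠ 2) {H : Type*} [Group H] [Finite H] (π : H →* sIsom B)
    (hs : Function.Surjective π) (hk : π.ker ≤ center H) (hp : commutator H = ⊤) :
    Function.Injective π := by
  obtain ⟨e⟩ := LIFT.iso_Sp h
  have hm := Chev.multiplier_Sp (F := F) (LIFT.three h) hx
  have hP : Group.IsPerfect H := ⟨hp⟩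
  have hP' : Group.IsPerfect (Matrix.symplecticGroup (Fin (kk F M)) F) :=
    Group.IsPerfect.ofSurjective (f := e.toMonoidHom.comp π) (e.surjective.comp hs)
  obtain ⟨η, hη⟩ := Solv.exists_lift_of_trivial hP' hm e.symm.toMonoidHom π (fun g => hs _) hk
  have key : ∀ g : sIsom B, π (η (e g)) = g := fun g => by
    have := DFunLike.congr_fun hη (e g)
    simpa using this
  set ψ := η.comp e.toMonoidHom with hψ
  have dec : ∀ x : H, ∃ g, ∃ z ∈ center H, x = ψ g * z := fun x => by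
    refine ⟨π x, (ψ (π x))⁻¹ * x, hk ?_, by group⟩
    rw [MonoidHom.mem_ker, map_mul, map_inv]
    exact inv_mul_eq_one.2 (key _)
  have top : ψ.range = ⊤ := by
    rw [eq_top_iff, ← hp, commutator_def, commutator_le]
    intro a _ b _
    obtain ⟨g, z, hz, rfl⟩ := dec a
    obtain ⟨g', z', hz', rfl⟩ := dec b
    refine ⟨⁅g, g'⁆, ?_⟩
    rw [map_commutatorElement, commutatorElement_def, commutatorElement_def]
    have c1 := mem_center_iff.1 hz
    have c2 := mem_center_iff.1 hz'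
    calc ψ g * ψ g' * (ψ g)⁻¹ * (ψ g')⁻¹
        = ψ g * (ψ g' * z) * ((z⁻¹ * (ψ g)⁻¹) * z') * z'⁻¹ * (ψ g')⁻¹ := by group
      _ = _ := by rw [c1 (ψ g'), c2 (z⁻¹ * (ψ g)⁻¹)]; group
  rw [injective_iff_map_eq_one]
  intro x hx
  obtain ⟨g, rfl⟩ : x ∈ ψ.range := top ▸ mem_top x
  have : g = 1 := (key g).symm.trans hx
  rw [this, map_one]

theorem mo_std {k : ℕ} (h2 : (2 : F) = 0) (hk : 3 ≤ k) :
    Mo (Class.sympBilin k F) := by
  have e : finrank F (Fin k ⊕ Fin k → F) = 2 * k := by simp [two_mul]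
  exact ⟨Known.sp2_sympBilin k h2, by omega, trivial⟩

end Model

end Cfsg.Lib.SP7
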