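import Cfsg.Agent.SP7.A1
import Cfsg.Agent.SP7.AC2
import Cfsg.Agent.SP7.K1
import Cfsg.Agent.SP7.K2
import Cfsg.Agent.SP7.K3
import Cfsg.Agent.SP7.K4

/-! Field involutions. -/

set_option autoImplicit false
set_option linter.unusedSectionVars false
set_option linter.unusedVariables false

namespace Cfsg.Lib.SP7

open Subgroup Module Cfsg.Lib.Trans Cfsg.Lib.Gold Cfsg.Lib.Class.Form Cfsg.Lib.Class.FAut
open Cfsg.Lib.UM6 (tT tE VW RR Fx St QW Cf mp Semi fa Mp cx re Ot kk Mx Fr3)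
open Cfsg.Lib.SG2 (Uq Top)
open Cfsg.Lib.Comp (Tw)
open scoped commutatorElement

variable {F M : Type*} [Field F] [Finite F] [AddCommGroup M] [Module F M] [FiniteDimensional F M]
  {B : M →ₗ[F] M →ₗ[F] F}

namespace J2

theorem ord {τ : F ≃+* F} (h1 : τ * τ = 1) (h2 : τ ≠ 1) : orderOf τ = 2 :=
  orderOf_eq_prime (by rw [pow_two, h1]) h2

theorem card_sq {τ : F ≃+* F} (h1 : τ * τ = 1) (h2 : τ ≠ 1) :
    Nat.card {a : F // τ a = a} ^ 2 = Nat.card F := by
  rw [← ord h1 h2, UM6.card_fixed]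

theorem ex_th {τ : F ≃+* F} (h2 : τ ≠ 1) : ∃ a, τ a ≠ a := by
  by_contra hn
  push Not at hn
  exact h2 (RingEquiv.ext hn)

theorem gen (h : Mo B) {α : MulAut (sIsom B)} {Γ : M ≃+ M} {τ : F ≃+* F} (k : Semi α Γ τ)
    (h1 : α * α = 1) (h2 : τ ≠ 1) {A : Subgroup (sIsom B)} (hA : ∀ a ∈ A, a * a = 1)
    (hc : A ≤ Cf α) :
    Nat.card A ≤ Nat.card {a : F // τ a = a} ^ (kk F M * (kk F M + 1) / 2) := by
  obtain ⟨g1, g2⟩ := h.semi_sq k h1
  obtain ⟨b, hb⟩ := UM6.descent τ Γ k.smul fun x => by rw [ord g2 h2]; exact g1 x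
  let K : Subfield F := RingHom.eqLocusField (τ : F →+* F) (RingHom.id F)
  have mK : ∀ a : F, a ∈ K ↔ τ a = a := fun a => Iff.rfl
  let N : Submodule K M :=
    { carrier := {x | Γ x = x}
      zero_mem' := map_zero Γ
      add_mem' := fun {x y} hx hy => by rw [Set.mem_ofPred_eq, map_add, hx, hy]
      smul_mem' := fun c x hx => by
        change Γ ((c : F) • x) = (c : F) • x
        rw [k.smul, hx, (mK c).1 c.2] }
  have mN : ∀ x : N, Γ x = x := fun x => x.2
  have hN : N ≤ Submodule.span K (Set.range b) := fun x hx => by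
    have e : ∀ i, τ (b.repr x i) = b.repr x i := fun i => by
      have e1 : Γ x = ∑ j, τ (b.repr x j) • b j := by
        conv_lhs => rw [← b.sum_repr x]
        rw [map_sum]
        exact Finset.sum_congr rfl fun j _ => by rw [k.smul, hb]
      rw [show Γ x = x from hx] at e1
      conv_rhs => rw [e1]
      simp [Finsupp.single_apply]
    rw [← b.sum_repr x]
    exact Submodule.sum_mem _ fun i _ => Submodule.smul_mem _ (⟨b.repr x i, (mK _).2 (e i)⟩ : K)
      (Submodule.subset_span ⟨i, rfl⟩)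
  have : Finite M := Module.finite_of_finite F
  have hd : finrank K N ≤ finrank F M := (Submodule.finrank_mono hN).trans
    ((finrank_range_le_card (R := K) b).trans (Fintype.card_fin _).le)
  let D : N →ₗ[K] N →ₗ[K] K := LinearMap.mk₂ K
    (fun x y => ⟨B x y, (mK _).2 (by rw [← k.form, mN, mN])⟩)
    (fun x y z => Subtype.ext (by simp))
    (fun c x y => Subtype.ext (by
      change B ((c : F) • (x : M)) y = c * B x y
      rw [map_smul, LinearMap.smul_apply, smul_eq_mul]))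
    (fun x y z => Subtype.ext (by simp))
    (fun c x y => Subtype.ext (by
      change B x ((c : F) • (y : M)) = c * B x y
      rw [map_smul, smul_eq_mul]))
  have hD : ∀ x y : N, (D x y : F) = B x y := fun _ _ => rfl
  have st : ∀ g : Cf α, ∀ x : N, lin (g : sIsom B) x ∈ N := fun g x => by
    have := k.conj g x
    rw [UM6.mem_Cf.1 g.2, mN] at this
    exact this.symm
  let ρ : Cf α →* (N ≃ₗ[K] N) :=
    { toFun g :=
        { toFun x := ⟨_, st g x⟩
          invFun x := ⟨_, st g⁻¹ x⟩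
          map_add' x y := Subtype.ext (map_add (lin (g : sIsom B)) _ _)
          map_smul' c x := Subtype.ext (map_smul (lin (g : sIsom B)) (c : F) (x : M))
          left_inv x := Subtype.ext (lin_inv_lin _ _)
          right_inv x := Subtype.ext (lin_lin_inv _ _) }
      map_one' := rfl
      map_mul' _ _ := rfl }
  have hρ : ∀ g x, (ρ g x : M) = lin (g : sIsom B) x := fun _ _ => rfl
  have inj : Function.Injective ρ := (injective_iff_map_eq_one ρ).2 fun g e =>
    Subtype.ext (lin_ext fun x => by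
      have : (lin (g : sIsom B) : M →ₗ[F] M) = LinearMap.id := b.ext fun i => by
        have := hρ g ⟨b i, hb i⟩
        rw [e] at this
        exact this.symm
      exact LinearMap.congr_fun this x)
  have key := UM6.rank_alt (K := K) (N := N) (Subtype.ext h.two) D
    (fun x => Subtype.ext (h.alt x))
    (fun x hx => Subtype.ext (by
      by_contra x0
      obtain ⟨y, hy⟩ := h.exists_eq x0 1
      have : B x = 0 := b.ext fun i => congrArg Subtype.val (hx ⟨b i, hb i⟩)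
      rw [this, LinearMap.zero_apply] at hy
      exact zero_ne_one hy))
    ((A.subgroupOf (Cf α)).map ρ) (by
      rintro _ ⟨a, ha, rfl⟩
      rw [← map_mul, show a * a = 1 from Subtype.ext (hA a ha), map_one]) (by
      rintro _ ⟨a, ha, rfl⟩ x y
      exact Subtype.ext (lin_isom _ _ _))
  rw [card_map_of_injective inj, Nat.card_congr (subgroupOfEquivOfLe hc).toEquiv] at key
  refine key.trans (Nat.pow_le_pow_right Nat.card_pos (Nat.div_le_div_right ?_))
  have : finrank K N / 2 ≤ kk F M := Nat.div_le_div_right hd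
  exact Nat.mul_le_mul this (Nat.succ_le_succ this)

/-- Fixed vectors span every invariant subspace. -/
theorem fixv (h : Mo B) {α : MulAut (sIsom B)} {Γ : M ≃+ M} {τ : F ≃+* F} (k : Semi α Γ τ)
    (h1 : α * α = 1) (h2 : τ ≠ 1) {s : Set M} (hs : ∀ x ∈ s, Γ x = x) {e y : M}
    (hy : ∀ x ∈ s, B x y = 0) (he : B e y ≠ 0) :
    ∃ z, Γ z = z ∧ (∀ x ∈ s, B x z = 0) ∧ B e z ≠ 0 := by
  obtain ⟨g1, g2⟩ := h.semi_sq k h1
  obtain ⟨a, ha⟩ := ex_th h2
  have hΓ : ∀ x ∈ s, B x (Γ y) = 0 := fun x hx => by rw [← hs x hx, k.form, hy x hx, map_zero]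
  by_cases c : B e (y + Γ y) = 0
  · refine ⟨a • y + Γ (a • y), by rw [map_add, g1, add_comm], fun x hx => by
      simp [k.smul, hy x hx, hΓ x hx], fun e' => ?_⟩
    simp only [map_add, k.smul, map_smul, smul_eq_mul] at c e'
    have : (a - τ a) * B e y = 0 := by linear_combination e' - τ a * c
    exact ha (sub_eq_zero.1 ((mul_eq_zero.1 this).resolve_right he)).symm
  · exact ⟨_, by rw [map_add, g1, add_comm], fun x hx => by simp [hy x hx, hΓ x hx], c⟩

/-- A fixed hyperbolic pair in the complement of a set of fixed vectors. -/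
theorem pair (h : Mo B) {α : MulAut (sIsom B)} {Γ : M ≃+ M} {τ : F ≃+* F} (k : Semi α Γ τ)
    (h1 : α * α = 1) (h2 : τ ≠ 1) {s : Set M} (hs : ∀ x ∈ s, Γ x = x) {y y' : M}
    (hy : ∀ x ∈ s, B x y = 0) (hy' : ∀ x ∈ s, B x y' = 0) (he : B y' y ≠ 0) :
    ∃ e f, Γ e = e ∧ Γ f = f ∧ (∀ x ∈ s, B x e = 0) ∧ (∀ x ∈ s, B x f = 0) ∧ B e f = 1 := by
  obtain ⟨e, e1, e2, e3⟩ := fixv h k h1 h2 hs hy he
  obtain ⟨f, f1, f2, f3⟩ := fixv h k h1 h2 hs hy' (e := e) (by rwa [h.symm])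
  refine ⟨e, (B e f)⁻¹ • f, e1, ?_, e2, fun x hx => by simp [f2 x hx], by simp [f3]⟩
  rw [k.smul, f1, map_inv₀, ← k.form, e1, f1]

/-- The complement of hyperbolic pairs is non-degenerate. -/
theorem next (h : Mo B) {e f e' f' : M} (k1 : B e f = 1) (k2 : B e' f' = 1 ∨ (e' = 0 ∧ f' = 0))
    (a1 : B e e' = 0) (a2 : B e f' = 0) (a3 : B f e' = 0) (a4 : B f f' = 0) :
    ∃ y y', (∀ x ∈ ({e, f, e', f'} : Set M), B x y = 0) ∧
      (∀ x ∈ ({e, f, e', f'} : Set M), B x y' = 0) ∧ B y' y ≠ 0 := by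
  classical
  have pr : ∀ v, ∀ x ∈ ({e, f, e', f'} : Set M),
      B x (v + B f v • e + B e v • f + B f' v • e' + B e' v • f') = 0 := by
    intro v x hx
    have b1 := h.swap a1
    have b2 := h.swap a2
    have b3 := h.swap a3
    have b4 := h.swap a4
    have k1' : B f e = 1 := by rw [h.symm, k1]
    simp only [Set.mem_insert_iff, Set.mem_singleton_iff] at hx
    rcases k2 with k2 | ⟨rfl, rfl⟩
    · have k2' : B f' e' = 1 := by rw [h.symm, k2]
      rcases hx with rfl | rfl | rfl | rfl <;> simp [h.alt, h.add_self, *]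
    · rcases hx with rfl | rfl | rfl | rfl <;> simp [h.alt, h.add_self, *]
  by_contra hn
  push Not at hn
  have top : Submodule.span F ({e, f, e', f'} : Set M) = ⊤ := eq_top_iff.2 fun v _ => by
    have h0 := h.mem_span (s := {e, f, e', f'})
      (p := v + B f v • e + B e v • f + B f' v • e' + B e' v • f') fun z hz => hn z _ hz (pr v)
    have m : ∀ x ∈ ({e, f, e', f'} : Set M), x ∈ Submodule.span F ({e, f, e', f'} : Set M) :=
      fun x hx => Submodule.subset_span hx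
    rwa [Submodule.add_mem_iff_left _ (Submodule.smul_mem _ _ (m _ (by simp))),
      Submodule.add_mem_iff_left _ (Submodule.smul_mem _ _ (m _ (by simp))),
      Submodule.add_mem_iff_left _ (Submodule.smul_mem _ _ (m _ (by simp))),
      Submodule.add_mem_iff_left _ (Submodule.smul_mem _ _ (m _ (by simp)))] at h0
  have := finrank_span_finset_le_card (R := F) ({e, f, e', f'} : Finset M)
  have h2 : ({e, f, e', f'} : Finset M).card ≤ 4 := Finset.card_le_four
  rw [Set.finrank, Finset.coe_insert, Finset.coe_insert, Finset.coe_insert,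
    Finset.coe_singleton, top, finrank_top] at this
  have := h.six
  omega

end J2

theorem Mo.j2 (h : Mo B) {α : MulAut (sIsom B)} (h1 : α * α = 1) (h2 : fa α ≠ 1)
    {A : Subgroup (sIsom B)} (hA : ∀ a ∈ A, a * a = 1) (hc : A ≤ Cf α) :
    Nat.card A ^ 2 ≤ Nat.card F ^ (kk F M * (kk F M + 1) / 2) := by
  obtain ⟨Γ, k⟩ := h.semi α
  rw [← J2.card_sq (h.semi_sq k h1).2 h2, ← pow_mul, mul_comm 2, pow_mul]
  exact Nat.pow_le_pow_left (J2.gen h k h1 h2 hA hc) 2

theorem Mo.fix_fr (h : Mo B) {α : MulAut (sIsom B)} {Γ : M ≃+ M} {τ : F ≃+* F} (k : Semi α Γ τ)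
    (h1 : α * α = 1) (h2 : τ ≠ 1) : ∃ e f, Fr3 B e f ∧ ∀ i, Γ (e i) = e i ∧ Γ (f i) = f i := by
  obtain ⟨u, u0⟩ := h.exists_ne
  obtain ⟨w, hw⟩ := h.exists_eq u0 1
  obtain ⟨e0, f0, a0, b0, -, -, c0⟩ := J2.pair h k h1 h2 (s := ∅) (by simp) (y := w) (y' := u)
    (by simp) (by simp) (by simp [hw])
  obtain ⟨y, y', k1, k2, k3⟩ := J2.next h c0 (Or.inr ⟨rfl, rfl⟩) (by simp) (by simp) (by simp)
    (by simp)
  obtain ⟨e1, f1, a1, b1, p1, q1, c1⟩ := J2.pair h k h1 h2 (s := {e0, f0, 0, 0})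
    (by simp [a0, b0]) k1 k2 k3
  simp only [Set.mem_insert_iff, Set.mem_singleton_iff, forall_eq_or_imp, forall_eq] at p1 q1
  obtain ⟨y, y', k1, k2, k3⟩ := J2.next h c0 (Or.inl c1) p1.1 q1.1 p1.2.1 q1.2.1
  obtain ⟨e2, f2, a2, b2, p2, q2, c2⟩ := J2.pair h k h1 h2 (s := {e0, f0, e1, f1})
    (by simp [a0, b0, a1, b1]) k1 k2 k3
  simp only [Set.mem_insert_iff, Set.mem_singleton_iff, forall_eq_or_imp, forall_eq] at p2 q2
  obtain ⟨r1, r2, -⟩ := p1
  obtain ⟨r3, r4, -⟩ := q1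
  obtain ⟨s1, s2, s3, s4⟩ := p2
  obtain ⟨s5, s6, s7, s8⟩ := q2
  refine ⟨![e0, e1, e2], ![f0, f1, f2], ⟨fun i j => ?_, fun i j => ?_, fun i j => ?_⟩, fun i => ?_⟩
  · fin_cases i <;> fin_cases j <;> simp [h.alt, r1, s1, s3, h.swap r1, h.swap s1, h.swap s3]
  · fin_cases i <;> fin_cases j <;> simp [h.alt, r4, s6, s8, h.swap r4, h.swap s6, h.swap s8]
  · fin_cases i <;> fin_cases j <;>
      simp [c0, c1, c2, r3, s5, s7, h.swap r2, h.swap s2, h.swap s4]
  · fin_cases i <;> simp [a0, a1, a2, b0, b1, b2]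

theorem J2.comm (h : Mo B) {u w v f : M} (a : F) (uw : B u w = 0) (uv : B u v = 0)
    (vw : B v w = 0) (uf : B u f = 0) (wf : B w f = 0) (vf : B v f = 1) :
    ⁅tE B v (a • w), tE B u f⁆ = tE B u (a • w) := by
  have k : B v (a • w) = 0 := by simp [vw]
  rw [commutatorElement_def, h.tE_conj _ uf, h.lin_tE k, h.lin_tE k]
  simp only [map_smul, LinearMap.smul_apply, h.swap uv, h.swap uw, vf, wf, smul_zero, zero_smul,
    add_zero, one_smul]
  rw [add_comm, h.tE_add ⟨by simp [uw], uf, by simp [wf]⟩, mul_inv_cancel_right]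

theorem Mo.traces (h : Mo B) {α : MulAut (sIsom B)} (h1 : α * α = 1) (h2 : fa α ≠ 1) :
    ∃ A : Subgroup (sIsom B), Nat.card F < Nat.card A ∧ 4 ≤ Nat.card A ∧ A ≤ ⁅Cf α, Cf α⁆ ⊓ Cf α ∧
      ∀ a ∈ A, a * a = 1 ∧ ∃ v, v * v = 1 ∧ a = v * α v := by
  obtain ⟨Γ, k⟩ := h.semi α
  generalize fa α = τ at k h2
  obtain ⟨e, f, fr, fx⟩ := h.fix_fr k h1 h2
  have g2 := (h.semi_sq k h1).2
  have tt : ∀ a, τ (τ a) = a := fun a => by
    rw [← RingAut.mul_apply τ τ a, g2]; rfl
  have ee := fr.ee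
  have ti : TotIso B (Submodule.span F (Set.range e)) := h.ti_span (by
    rintro _ ⟨i, rfl⟩ _ ⟨j, rfl⟩; exact ee i j)
  have me : ∀ i j (a : F), tE B (e i) (a • e j) ∈ VW B (Submodule.span F (Set.range e)) :=
    fun i j a => h.tE_mem (by simp [ee]) (Submodule.subset_span ⟨i, rfl⟩)
      (Submodule.smul_mem _ _ (Submodule.subset_span ⟨j, rfl⟩))
  have cm : ∀ g ∈ VW B (Submodule.span F (Set.range e)),
      ∀ g' ∈ VW B (Submodule.span F (Set.range e)), Commute g g' := fun g hg g' hg' => by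
    have := h.sq_VW ti (mul_mem hg hg')
    rw [Commute, SemiconjBy, ← inv_eq_of_mul_eq_one_right this, mul_inv_rev,
      inv_eq_of_mul_eq_one_right (h.sq_VW ti hg), inv_eq_of_mul_eq_one_right (h.sq_VW ti hg')]
  let ψ : F → F → F → sIsom B := fun a b c =>
    tE B (e 0) (a • e 1) * tE B (e 0) (b • e 2) * tE B (e 1) (c • e 2)
  have mψ : ∀ a b c, ψ a b c ∈ VW B (Submodule.span F (Set.range e)) := fun a b c =>
    mul_mem (mul_mem (me _ _ _) (me _ _ _)) (me _ _ _)
  have ad : ∀ i j (a b : F), tE B (e i) ((a + b) • e j) = tE B (e i) (a • e j) * tE B (e i) (b • e j) :=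
    fun i j a b => by rw [add_smul, h.tE_add ⟨by simp [ee], by simp [ee], by simp [ee]⟩]
  have aψ : ∀ a b c a' b' c', ψ (a + a') (b + b') (c + c') = ψ a b c * ψ a' b' c' := by
    intro a b c a' b' c'
    simp only [ψ, ad]
    rw [(cm _ (me 0 1 a') _ (me 0 2 b)).mul_mul_mul_comm,
      (cm _ (mul_mem (me 0 1 a') (me 0 2 b')) _ (me 1 2 c)).mul_mul_mul_comm]
  have αE : ∀ i j (a : F), α (tE B (e i) (a • e j)) = tE B (e i) (τ a • e j) := fun i j a => by
    rw [h.semi_tE k (by simp [ee]), k.smul, (fx i).1, (fx j).1]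
  have αψ : ∀ a b c, α (ψ a b c) = ψ (τ a) (τ b) (τ c) := fun a b c => by
    simp only [ψ, map_mul, αE]
  let K : Subfield F := RingHom.eqLocusField (τ : F →+* F) (RingHom.id F)
  have mK : ∀ a : K, τ a = a := fun a => a.2
  let ρ : Multiplicative (K × K × K) →* sIsom B :=
    MonoidHom.mk' (fun x => ψ x.toAdd.1 x.toAdd.2.1 x.toAdd.2.2) fun x y => aψ _ _ _ _ _ _
  have li : LinearIndependent F ![e 0, e 1, e 2] := by
    rw [Fintype.linearIndependent_iff]
    intro g hg i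
    have := congrArg (fun v => B v (f i)) hg
    fin_cases i <;> simpa [Fin.sum_univ_three, fr.ef] using this
  have inj : Function.Injective ρ := (injective_iff_map_eq_one ρ).2 fun x hx => by
    obtain ⟨-, -, -, k1, k2, k3⟩ := h.v3_inj (u := e 0) (w := e 1) (x := e 2)
      ⟨⟨ee _ _, ee _ _, ee _ _⟩, li⟩ (c := 0) (d := 0) (e := 0)
      (by simp only [h.tT_zero, one_mul]; exact hx)
    exact Prod.ext (Subtype.ext k1) (Prod.ext (Subtype.ext k2) (Subtype.ext k3))
  have cd : Nat.card ρ.range = Nat.card K ^ 3 := by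
    rw [← Nat.card_congr (MonoidHom.ofInjective inj).toEquiv]
    show Nat.card (K × K × K) = _
    rw [Nat.card_prod, Nat.card_prod]; ring
  have cK : Nat.card K ^ 2 = Nat.card F := J2.card_sq g2 h2
  have k2 : 2 ≤ Nat.card K := Finite.one_lt_card
  have cE : ∀ i j l, i ≠ l → j ≠ l → ∀ a : K, tE B (e i) ((a : F) • e j) ∈ ⁅Cf α, Cf α⁆ := by
    intro i j l il jl a
    rw [← J2.comm h (v := e l) (f := f l) a (ee _ _) (ee _ _) (ee _ _) (by simp [fr.ef, il])
      (by simp [fr.ef, jl]) (by simp [fr.ef])]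
    refine commutator_mem_commutator (UM6.mem_Cf.2 (by rw [αE, mK])) (UM6.mem_Cf.2 ?_)
    rw [h.semi_tE k (by simp [fr.ef, il]), (fx i).1, (fx l).2]
  obtain ⟨θ, hθ⟩ := J2.ex_th h2
  have θ0 : θ + τ θ ≠ 0 := fun e => hθ (by linear_combination e - θ * h.two)
  have tr : ∀ a : K, ∃ a' : F, (a : F) = a' + τ a' := fun a => ⟨a * θ / (θ + τ θ), by
    rw [map_div₀, map_mul, map_add, mK, tt, add_comm (τ θ)]
    field_simp⟩
  refine ⟨ρ.range, ?_, ?_, ?_, ?_⟩
  · rw [cd, ← cK]; exact Nat.pow_lt_pow_right k2 (by norm_num)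
  · rw [cd]; exact le_trans (by norm_num) (Nat.pow_le_pow_left k2 3)
  · rintro _ ⟨x, rfl⟩
    exact ⟨mul_mem (mul_mem (cE 0 1 2 (by decide) (by decide) _) (cE 0 2 1 (by decide) (by decide) _))
      (cE 1 2 0 (by decide) (by decide) _), UM6.mem_Cf.2 (by
        show α (ψ _ _ _) = ψ _ _ _
        rw [αψ, mK, mK, mK])⟩
  · rintro _ ⟨x, rfl⟩
    obtain ⟨a, ha⟩ := tr x.toAdd.1
    obtain ⟨b, hb⟩ := tr x.toAdd.2.1
    obtain ⟨c, hc⟩ := tr x.toAdd.2.2
    refine ⟨h.sq_VW ti (mψ _ _ _), ψ a b c, h.sq_VW ti (mψ _ _ _), ?_⟩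
    show ψ _ _ _ = _
    rw [αψ, ← aψ, ha, hb, hc]

end Cfsg.Lib.SP7
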