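import Cfsg.Agent.SP7.J1
import Cfsg.Agent.SP7.J2
import Cfsg.Agent.SP7.K1
import Cfsg.Agent.SP7.K2
import Cfsg.Agent.SP7.K4
import Cfsg.Agent.SP7.KIT

/-!
# Standard subgroups of type `Sp_{2k}(2ⁿ)`: maximal elementary abelian subgroups of `C(t)`
-/

set_option autoImplicit false
set_option linter.unusedSectionVars false

namespace Cfsg.Lib.SP7

open Subgroup Module Cfsg.Lib.Trans Cfsg.Lib.Gold Cfsg.Lib.Class.Form Cfsg.Lib.Class.FAut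
open Cfsg.Lib.UM6 (tT tE VW RR Fx St QW Cf mp Semi fa Mp cx re Ot kk Mx Fr3)
open Cfsg.Lib.SG2 (Uq Top)
open Cfsg.Lib.Comp (Tw)
open scoped commutatorElement

variable {G F M : Type*} [Group G] [Finite G] [Field F] [Finite F] [AddCommGroup M] [Module F M]
  [FiniteDimensional F M] {B : M →ₗ[F] M →ₗ[F] F} {φ φ' : sIsom B →* G} {t : G}

namespace P1b

theorem cover {D A : Subgroup G} (a : G) (h : ∀ e ∈ D, e ∈ A ∨ a⁻¹ * e ∈ A) :
    Nat.card D ≤ 2 * Nat.card ↥(D ⊓ A) := by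
  classical
  refine (SG2.card_le_cover (({1, a} : Finset G) : Set G) fun e he => ?_).trans
    (Nat.mul_le_mul_right _ (by simpa using Finset.card_le_two))
  simpa using h e he

theorem in_top (h : Hyp φ t) {a : G} (ha : Commute a t) (a2 : a * a = 1) {α : MulAut (sIsom B)}
    (k : Mp φ φ a α) (e : fa α = 1) : a ∈ AA φ t ⊤ := by
  obtain ⟨l, -, e⟩ := h.inn ha a2 k e
  exact h.mem_AA.2 ⟨l, mem_top _, e⟩

theorem fa_sq (h : Hyp φ t) {a : G} (a2 : a * a = 1) {α : MulAut (sIsom B)} (k : Mp φ φ a α) :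
    fa α * fa α = 1 := by
  rw [← h.toMo.fa_mul, h.toMod.mp_sq k a2, h.toMo.fa_one]

theorem core (h : Hyp φ t) {A : Subgroup G} (hA : ∀ a ∈ A, a * a = 1) (hle : A ≤ C1 t)
    (ht : t ∈ A) : Nat.card A ≤ 2 * Nat.card F ^ (kk F M * (kk F M + 1) / 2) ∧
      (2 * Nat.card F ^ (kk F M * (kk F M + 1) / 2) ≤ Nat.card A →
        ∃ W, Mx B W ∧ A = AA φ t (VW B W)) := by
  obtain ⟨A₁, e⟩ := h.AA_lift (Y := A ⊓ AA φ t ⊤) ⟨ht, mem_sup_left (mem_zpowers t)⟩ inf_le_right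
  have hm : ∀ a ∈ A₁, φ a ∈ A := fun a ha => (e.ge (mem_sup_right ⟨a, ha, rfl⟩)).1
  have h1 : ∀ a ∈ A₁, a * a = 1 := fun a ha => h.inj (by rw [map_mul, hA _ (hm a ha), map_one])
  have hc : Nat.card ↥(A ⊓ AA φ t ⊤) = 2 * Nat.card A₁ := by rw [e, h.card_AA]
  by_cases hT : A ≤ AA φ t ⊤
  · rw [inf_eq_left.2 hT] at e hc
    obtain ⟨j1, j2⟩ := h.toMo.j1 h1
    refine ⟨by omega, fun hq => ?_⟩
    obtain ⟨W, hW, rfl⟩ := j2 (by omega)
    exact ⟨W, hW, e⟩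
  obtain ⟨a, ha, hn⟩ := SetLike.not_le_iff_exists.1 hT
  obtain ⟨α, k⟩ := h.toMod.ind (h.cn (hle ha))
  have e1 : fa α ≠ 1 := fun e => hn (in_top h (mem_C1.1 (hle ha)) (hA a ha) k e)
  have h4 := h.toMo.j2 (h.toMod.mp_sq k (hA a ha)) e1 h1 fun b hb =>
    (h.toMod.mp_fix k).1 (comm_of_sq hA a ha _ (hm b hb))
  have h5 := cover (D := A) (A := AA φ t ⊤) a fun b hb => by
    obtain ⟨β, k'⟩ := h.toMod.ind (h.cn (hle hb))
    by_cases e2 : fa β = 1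
    · exact .inl (in_top h (mem_C1.1 (hle hb)) (hA b hb) k' e2)
    · have hab := mul_mem (inv_mem ha) hb
      refine .inr (in_top h (mem_C1.1 (hle hab)) (hA _ hab) (k.inv.mul k') ?_)
      rw [h.toMo.fa_mul, h.toMo.fa_inv,
        aut_inv (fa_sq h (hA a ha) k) (fa_sq h (hA b hb) k') e1 e2, inv_mul_cancel]
  have q2 := h.toMo.two_le
  have k3 := h.toMo.three_le
  have h8 : 2 ^ 6 ≤ Nat.card F ^ (kk F M * (kk F M + 1) / 2) :=
    (Nat.pow_le_pow_left q2 6).trans (Nat.pow_le_pow_right (by omega) (by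
      have : 12 ≤ kk F M * (kk F M + 1) := by nlinarith
      omega))
  have h9 : Nat.card A < 2 * Nat.card F ^ (kk F M * (kk F M + 1) / 2) := by
    by_contra hq
    generalize Nat.card F ^ (kk F M * (kk F M + 1) / 2) = Q at *
    have : Q ≤ 2 * Nat.card A₁ := by omega
    nlinarith
  exact ⟨h9.le, fun hq => absurd hq (not_le.2 h9)⟩

end P1b

open P1b

theorem Hyp.jl (h : Hyp φ t) {A : Subgroup G} (hA : ∀ a ∈ A, a * a = 1) (hle : A ≤ C1 t) :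
    Nat.card A ≤ 2 * Nat.card F ^ (kk F M * (kk F M + 1) / 2) ∧
      (2 * Nat.card F ^ (kk F M * (kk F M + 1) / 2) ≤ Nat.card A →
        ∃ W, Mx B W ∧ A = AA φ t (VW B W)) := by
  obtain ⟨h1, h2⟩ := core h (A := A ⊔ zpowers t)
    (Comp.sq_sup hA (Comp.sq_zpowers h.t2) fun a ha b hb =>
      (mem_Cs.1 ((Cs_zpowers t).ge (hle ha)) b hb).symm)
    (sup_le hle (zpowers_le.2 (mem_C1.2 rfl))) (mem_sup_right (mem_zpowers t))
  have h3 := Subgroup.card_le_of_le (le_sup_left : A ≤ A ⊔ zpowers t)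
  refine ⟨h3.trans h1, fun hc => ?_⟩
  rw [eq_of_le_of_card_ge (le_sup_left : A ≤ A ⊔ zpowers t) (h1.trans hc)]
  exact h2 (hc.trans h3)

theorem Hyp.card_J (h : Hyp φ t) {W : Submodule F M} (hW : Mx B W) :
    Nat.card (AA φ t (VW B W)) = 2 * Nat.card F ^ (kk F M * (kk F M + 1) / 2) := by
  rw [h.card_AA, h.toMo.card_VW hW.ti, hW.dim]

theorem Hyp.J_cx (h : Hyp φ t) {W : Submodule F M} (hW : Mx B W) {g : G}
    (e : AA φ t (VW B W) ≤ C1 (g * t * g⁻¹)) :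
    ∃ W', Mx B W' ∧ AA φ t (VW B W) = cj g (AA φ t (VW B W')) := by
  obtain ⟨W', hW', e'⟩ := ((h.cx g).jl (fun _ ha =>
    h.sq_AA (fun _ hv => h.toMo.sq_VW hW.ti hv) ha) e).2 (h.card_J hW).ge
  exact ⟨W', hW', by rw [e', AA_cx]⟩

theorem P1b.J_le (h : Hyp φ t) {W : Submodule F M} (hW : Mx B W) {d : G}
    (hd : d ∈ AA φ t (VW B W)) : AA φ t (VW B W) ≤ C1 d := fun a ha =>
  mem_C1.2 (comm_of_sq (fun _ hx => h.sq_AA (fun _ hv => h.toMo.sq_VW hW.ti hv) hx) a ha d hd)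

theorem Hyp.trJ (h : Hyp φ t) {W : Submodule F M} (hW : Mx B W) {d : G} (hd : d ∈ AA φ t (VW B W))
    (e : IsConj t d) : ∃ n ∈ Ns (AA φ t (VW B W)), n * t * n⁻¹ = d := by
  obtain ⟨g, rfl⟩ := isConj_iff.1 e
  obtain ⟨W', hW', e'⟩ := h.J_cx hW (J_le h hW hd)
  obtain ⟨l, hl⟩ := h.toMo.trW hW hW'
  refine ⟨g * φ l, mem_Ns_iff.2 ?_, ?_⟩
  · rw [cj_mul, h.cj_AA, (UM6.cj_sub hl).1, ← e']
  · rw [show g * φ l * t * (g * φ l)⁻¹ = g * (φ l * t * (φ l)⁻¹) * g⁻¹ by group, ← (h.tc l).eq,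
      mul_inv_cancel_right]

theorem Hyp.sym (h : Hyp φ t) {g : G} (e : g * t * g⁻¹ ∈ AA φ t ⊤) : t ∈ cj g (AA φ t ⊤) := by
  obtain ⟨v, -, hv⟩ := h.mem_AA.1 e
  have s2 : g * t * g⁻¹ * (g * t * g⁻¹) = 1 := Comp.conj_sq h.t2 g
  have v2 : v * v = 1 := h.inj (by
    rw [map_mul, map_one]
    rcases hv with hv | hv
    · rwa [hv] at s2
    · rwa [hv, (h.tc v).symm.mul_mul_mul_comm, h.t2, one_mul] at s2)
  obtain ⟨W, hW, hm⟩ := h.toMo.inv v2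
  obtain ⟨W', -, e'⟩ := h.J_cx hW (J_le h hW (h.mem_AA.2 ⟨v, hm, hv⟩))
  exact cj_mono g (h.AA_inj.2 le_top) (e'.le (mem_sup_left (mem_zpowers t)))

theorem Hyp.field (h : Hyp φ t) {g : G} (h1 : Commute (g * t * g⁻¹) t)
    (h2 : g * t * g⁻¹ ∉ AA φ t ⊤) : ∃ A : Subgroup G, Nat.card F < Nat.card A ∧ 4 ≤ Nat.card A ∧
      A ≤ ⁅C1 t, C1 t⁆ ⊓ C1 t ∧ ∀ a ∈ A, a * a = 1 ∧ IsConj t (t * a) := by
  have s2 : g * t * g⁻¹ * (g * t * g⁻¹) = 1 := Comp.conj_sq h.t2 g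
  obtain ⟨α, k⟩ := h.toMod.ind (h.cn (mem_C1.2 h1))
  obtain ⟨A, c1, c2, c3, c4⟩ := h.toMo.traces (h.toMod.mp_sq k s2) fun e => h2 (in_top h h1 s2 k e)
  have hC : (Cf α).map φ ≤ cj g (C1 t) := by
    rintro _ ⟨a, ha, rfl⟩
    rw [cj_C1]
    exact mem_C1.2 ((h.toMod.mp_fix k).2 ha).symm
  refine ⟨cj g⁻¹ (A.map φ), by rwa [card_cj, h.toMod.card_map], by rwa [card_cj, h.toMod.card_map],
    ?_, fun a ha => ?_⟩
  · rw [cj_inv_le_iff_le_cj, cj_inf, cj_commutator]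
    refine (map_mono c3).trans ((map_inf_le _ _ _).trans (inf_le_inf ?_ hC))
    rw [map_commutator]
    exact commutator_mono hC hC
  · obtain ⟨b, hb, e⟩ := mem_cj_inv.1 ha
    obtain ⟨b2, v, v2, rfl⟩ := c4 b hb
    obtain rfl : a = g⁻¹ * φ (v * α v) * g := by rw [e]; group
    refine ⟨?_, ?_⟩
    · rw [show g⁻¹ * φ (v * α v) * g * (g⁻¹ * φ (v * α v) * g) =
        g⁻¹ * (φ (v * α v) * φ (v * α v)) * g by group, ← map_mul, b2, map_one]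
      group
    · have cm : Commute (g * t * g⁻¹) (φ (v * α v)) := (h.toMod.mp_fix k).2 (c3 hb).2
      have e1 : φ v * (g * t * g⁻¹) * (φ v)⁻¹ = g * t * g⁻¹ * φ (v * α v) := by
        rw [cm.eq, map_mul, ← k v, ← eq_inv_of_mul_eq_one_left (show φ v * φ v = 1 by
          rw [← map_mul, v2, map_one])]
        group
      refine isConj_iff.2 ⟨g⁻¹ * φ v * g, ?_⟩
      rw [show g⁻¹ * φ v * g * t * (g⁻¹ * φ v * g)⁻¹ =
        g⁻¹ * (φ v * (g * t * g⁻¹) * (φ v)⁻¹) * g by group, e1]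
      group

end Cfsg.Lib.SP7
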