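import Cfsg.Agent.SP7.A2
import Cfsg.Agent.SP7.GEN
import Cfsg.Agent.SP7.K1
import Cfsg.Agent.SP7.K3

/-!
# Standard subgroups of type `Sp_{2k}(2ⁿ)`: automorphisms of `P_u`, first steps
-/

set_option autoImplicit false
set_option linter.unusedSectionVars false
set_option linter.unusedVariables false

namespace Cfsg.Lib.SP7

open Subgroup Module Cfsg.Lib.Trans Cfsg.Lib.Gold Cfsg.Lib.Class.Form Cfsg.Lib.Class.FAut
open Cfsg.Lib.UM6 (tT tE VW RR Fx St QW Cf mp Semi fa Mp cx re Ot kk Mx Fr3)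
open Cfsg.Lib.SG2 (Uq Top)
open Cfsg.Lib.Comp (Tw)
open scoped commutatorElement

variable {F M : Type*} [Field F] [Finite F] [AddCommGroup M] [Module F M] [FiniteDimensional F M]
  {B : M →ₗ[F] M →ₗ[F] F}

namespace AP0

theorem P_le {u : M} : Pu B u ≤ Ns (Qu B u) := fun _ hg => (UM6.St_le_Ns (UM6.Fx_le_St hg)).1.2

theorem step1 (h : Mo B) {u : M} (u0 : u ≠ 0) (β : Pu B u →* sIsom B) (hP : ∀ p, β p ∈ Pu B u)
    (k : ∀ p : Pu B u, p.1 ∈ Qu B u → ∃ c, β p = p.1 * tT B u c) (p : Pu B u) :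
    p.1⁻¹ * β p ∈ Qu B u := by
  have pu : lin p.1 u = u := UM6.mem_Fx1.1 p.2
  have bu : lin (β p) u = u := UM6.mem_Fx1.1 (hP p)
  refine ⟨mul_mem (inv_mem p.2) (hP p), fun x hx => ?_⟩
  have hx := h.mem_orth1.1 hx
  let v : Pu B u := ⟨tE B u x, UM6.QW_le_Fx (h.tE_mem_Q hx)⟩
  obtain ⟨c, e⟩ := k v (h.tE_mem_Q hx)
  obtain ⟨d, e'⟩ := k (p * v * p⁻¹) (mem_Ns_iff.1 (P_le p.2) ▸ conj_mem_cj.2 (h.tE_mem_Q hx))
  rw [map_mul, map_mul, map_inv, e] at e'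
  change β p * ee B u x c * (β p)⁻¹ = p.1 * tE B u x * p.1⁻¹ * tT B u d at e'
  rw [h.ee_conj _ hx, h.tE_conj _ hx, bu, pu] at e'
  have k1 : B u (lin (β p) x) = 0 := by rw [← hx, ← lin_isom (β p) u x, bu]
  have k2 : B u (lin p.1 x) = 0 := by rw [← hx, ← lin_isom p.1 u x, pu]
  obtain ⟨a, ha⟩ := Submodule.mem_span_singleton.1 ((h.ee_inj u0 k1 k2).1 e').1
  have : lin (p.1⁻¹ * β p) x - x = lin p.1⁻¹ (a • u) := by
    rw [ha, lin_mul, map_add, lin_inv_lin, h.vsub]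
  rw [this, map_smul, UM6.mem_Fx1.1 (inv_mem p.2)]
  exact Submodule.smul_mem _ _ (Submodule.mem_span_singleton_self u)

theorem le_Q (h : Mo B) {u : M} (β : MulAut (Pu B u)) (p : Pu B u) (hp : p.1 ∈ Qu B u) :
    (β p).1 ∈ Qu B u := by
  refine h.O2 (h.ti1 u) (N := (((Qu B u).subgroupOf (Pu B u)).map β.toMonoidHom).map
    (Pu B u).subtype) (((h.two_QW (h.ti1 u)).comap_subtype.map _).map _) (map_subtype_le _)
    (fun g hg => mem_normalizer_of_cj_le (cj_le_iff.2 ?_)) ⟨_, ⟨p, hp, rfl⟩, rfl⟩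
  rintro _ ⟨_, ⟨q, hq, rfl⟩, rfl⟩
  refine ⟨_, ⟨β⁻¹ ⟨g, hg⟩ * q * (β⁻¹ ⟨g, hg⟩)⁻¹, ?_, rfl⟩, by simp⟩
  exact mem_subgroupOf.2 (mem_Ns_iff.1 (P_le (β⁻¹ ⟨g, hg⟩).2) ▸ conj_mem_cj.2 hq)

theorem le_R (h : Mo B) {u : M} (β : MulAut (Pu B u)) (p : Pu B u) (hp : p.1 ∈ RR B u) :
    (β p).1 ∈ RR B u := by
  refine (h.Cs_Fx (h.ti1 u)).le (mem_Cs.2 fun g hg => ?_)
  have e : β⁻¹ ⟨g, hg⟩ * p = p * β⁻¹ ⟨g, hg⟩ :=
    Subtype.ext (mem_Cs.1 ((h.Cs_Fx (h.ti1 u)).ge hp) _ (β⁻¹ ⟨g, hg⟩).2)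
  simpa using congrArg (fun x => (β x).1) e

end AP0

open AP0

theorem Mo.ap0 (h : Mo B) {u : M} (u0 : u ≠ 0) (β : Pu B u →* sIsom B) (hP : ∀ p, β p ∈ Pu B u)
    (k : ∀ p : Pu B u, p.1 ∈ Qu B u → ∃ c, β p = p.1 * tT B u c) (p : Pu B u) (hp : p.1 ∈ Qu B u) :
    β p = p := by
  obtain ⟨x, c, hx, e⟩ := (h.mem_Q u0).1 hp
  obtain ⟨q, hq, e'⟩ := h.gen_B (x := 0) u0 (map_zero _)
    (H := (β.eqLocus (Pu B u).subtype).map (Pu B u).subtype) (fun y a hy _ hn => by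
      obtain ⟨z, hz, rfl⟩ := h.dual2 u0 hn 0 a
      let T : Pu B u := ⟨tT B y 1, h.tT_mem_Fx (h.mem_orth1.2 hy) 1⟩
      let v : Pu B u := ⟨ee B u z 0, UM6.QW_le_Fx (h.ee_mem_Q hz 0)⟩
      refine ⟨⁅T, v⁆, ?_, ?_⟩
      · obtain ⟨d, e1⟩ := k v (h.ee_mem_Q hz 0)
        obtain ⟨q, hq, e2⟩ : ∃ q ∈ Qu B u, β T = T.1 * q := ⟨_, step1 h u0 β hP k T, by group⟩
        have c1 : Commute q v.1 := h.comm_Q u0 hq (h.ee_mem_Q hz 0)
        have c2 : Commute q (tT B u d) := h.comm_Q u0 hq (h.tT_mem_Q u d)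
        have c3 : Commute T.1 (tT B u d) := h.comm_TT (h.swap hy) 1 d
        change β ⁅T, v⁆ = ⁅T.1, v.1⁆
        rw [map_commutatorElement, e1, e2, commutatorElement_def, commutatorElement_def,
          show T.1 * q * (v.1 * tT B u d) * (T.1 * q)⁻¹ =
            T.1 * (q * (v.1 * tT B u d) * q⁻¹) * T.1⁻¹ by group,
          (c1.mul_right c2).eq, mul_inv_cancel_right,
          show T.1 * (v.1 * tT B u d) * T.1⁻¹ * (v.1 * tT B u d)⁻¹ =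
            T.1 * v.1 * (tT B u d * T.1⁻¹ * (tT B u d)⁻¹) * v.1⁻¹ by group,
          c3.inv_left.symm.eq, mul_inv_cancel_right]
      · change ⁅tT B y 1, ee B u z 0⁆ = _
        rw [h.comm_T hz hy, one_mul]) hx (LinearMap.map_zero₂ _ _) c
  obtain rfl : q = p := Subtype.ext (e'.trans e.symm)
  exact hq

theorem Mo.ap_Q (h : Mo B) {u : M} (u0 : u ≠ 0) (β : MulAut (Pu B u)) (p : Pu B u) :
    ((β p).1 ∈ Qu B u ↔ p.1 ∈ Qu B u) ∧ ((β p).1 ∈ RR B u ↔ p.1 ∈ RR B u) :=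
  ⟨⟨fun e => by simpa using le_Q h β⁻¹ _ e, le_Q h β p⟩,
    ⟨fun e => by simpa using le_R h β⁻¹ _ e, le_R h β p⟩⟩

theorem Mo.ap_T (h : Mo B) {u : M} (u0 : u ≠ 0) (β : MulAut (Pu B u)) (p : Pu B u) {y : M}
    (e : p.1 = tT B y 1) (hy : B u y = 0) : ∃ y', B u y' = 0 ∧
      ∀ v ∈ Qu B u, (β p).1 * v * (β p).1⁻¹ = tT B y' 1 * v * (tT B y' 1)⁻¹ := by
  have p2 : p * p = 1 := Subtype.ext (by rw [coe_mul, e, h.tT_sq, coe_one])
  refine h.rf u0 (α := MulAut.conj (β p).1) (by rw [← map_mul, ← coe_mul, ← map_mul, p2]; simp)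
    (mem_Ns_iff.1 (P_le (β p).2)).le ?_
  have c1 : Nat.card F ^ (2 * kk F M - 2) ≤ Nat.card ↥(Qu B u ⊓ Pu B y) := by
    by_cases hn : y ∈ F ∙ u
    · rw [inf_eq_left.2 (UM6.QW_le_Fx.trans (UM6.Fx_anti ((Submodule.span_singleton_le_iff_mem _ _).2
        hn))), h.card_Q u0]
      exact Nat.pow_le_pow_right (by have := h.two_le; omega) (by omega)
    · exact (h.card_QF (P2.iff.2 ⟨hy, u0, hn⟩)).ge
  refine c1.trans ?_
  rw [← Nat.card_congr (subgroupOfEquivOfLe (inf_le_left.trans UM6.QW_le_Fx :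
      Qu B u ⊓ Pu B y ≤ Pu B u)).toEquiv,
    ← card_map_of_injective (f := β.toMonoidHom) β.injective,
    ← card_map_of_injective (subtype_injective (Pu B u))]
  refine Subgroup.card_le_of_le ?_
  rintro _ ⟨_, ⟨q, hq, rfl⟩, rfl⟩
  refine ⟨le_Q h β q hq.1, ?_⟩
  have c2 : p * q = q * p := Subtype.ext (by
    rw [coe_mul, coe_mul, e]
    exact ((h.comm_tT one_ne_zero).2 (UM6.mem_Fx1.1 hq.2)).symm.eq)
  change (β p).1 * (β q).1 * (β p).1⁻¹ = (β q).1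
  rw [← coe_mul, ← map_mul, c2, map_mul, coe_mul, mul_inv_cancel_right]

end Cfsg.Lib.SP7
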