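import Cfsg.Agent.SP7.K1
import Cfsg.Agent.SP7.K2
import Cfsg.Agent.SP7.K4
import Cfsg.Agent.SP7.KIT
import Cfsg.Agent.SP7.P1a

/-!
# Standard subgroups of symplectic type: calculus of the short root elements, commutation
-/

set_option autoImplicit false
set_option linter.unusedSectionVars false
set_option linter.unusedVariables false

namespace Cfsg.Lib.SP7

open Subgroup Module Cfsg.Lib.Trans Cfsg.Lib.Gold Cfsg.Lib.Class.Form Cfsg.Lib.Class.FAut
open Cfsg.Lib.UM6 (tT tE VW RR Fx St QW Cf mp Semi fa Mp cx re Ot kk Mx Fr3)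
open Cfsg.Lib.SG2 (Uq Top)
open Cfsg.Lib.Comp (Tw)
open scoped commutatorElement

variable {G F M : Type*} [Group G] [Finite G] [Field F] [Finite F] [AddCommGroup M] [Module F M]
  [FiniteDimensional F M] {B : M →ₗ[F] M →ₗ[F] F} {φ φ' : sIsom B →* G} {t : G} {κ β : F}
  {H : M → M → G}

theorem TA.zero (h : TA φ t κ H) (u : M) : H u 0 = 1 := by
  have := h.self 0 u
  rwa [zero_smul, mul_zero, h.toMo.tT_zero, map_one] at this

theorem TA.zero' (h : TA φ t κ H) (w : M) : H 0 w = 1 := by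
  have := h.add1 0 0 w ⟨by simp, by simp, by simp⟩
  rw [add_zero] at this
  exact mul_eq_left.1 this.symm

theorem TA.inv (h : TA φ t κ H) (u w : M) : (H u w)⁻¹ = H u w :=
  inv_eq_of_mul_eq_one_right (h.sq u w)

theorem TA.fix (h : TA φ t κ H) {g : sIsom B} {u w : M} (e : lin g u = u) (e' : lin g w = w) :
    Commute (φ g) (H u w) := by
  have := h.eqv g u w
  rw [e, e'] at this
  exact mul_inv_eq_iff_eq_mul.1 this

namespace P6a

theorem fixT (h : TA φ t κ H) {a u w : M} (h1 : B a u = 0) (h2 : B a w = 0) (c : F) :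
    Commute (φ (tT B a c)) (H u w) :=
  h.fix (by rw [h.toMo.lin_tT, h1]; simp) (by rw [h.toMo.lin_tT, h2]; simp)

theorem fixE (h : TA φ t κ H) {a b u w : M} (k : B a b = 0) (h1 : B a u = 0) (h2 : B a w = 0)
    (h3 : B b u = 0) (h4 : B b w = 0) : Commute (φ (tE B a b)) (H u w) :=
  h.fix (by rw [h.toMo.lin_tE k, h1, h3]; simp) (by rw [h.toMo.lin_tE k, h2, h4]; simp)

end P6a

theorem TA.ksH (h : TA φ t κ H) {u w : M} (k : B u w = 0) : KS φ t κ (H u w) u w 0 := by
  refine ⟨by rw [h.toMo.ee_zero]; exact h.ht u w k, fun y hy c => ?_⟩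
  rw [ee, map_mul, ← conj_mul, h.actQ u w y k hy,
    (P6a.fixT h (h.alt u) k c).symm.mul_inv_cancel, ← map_mul, ee, ee, mul_assoc,
    ← h.toMo.tT_add, add_comm]

theorem TA.tH (h : TA φ t κ H) {u w : M} (k : B u w = 0) :
    t * H u w * t⁻¹ = H u w * φ (tE B u w) := by
  have e := mul_inv_eq_iff_eq_mul.1 (h.ht u w k)
  rw [inv_eq_of_mul_eq_one_right h.t2, mul_assoc, e, ← mul_assoc, ← mul_assoc, h.t2, one_mul,
    (P6a.fixE h k (h.alt u) k (h.toMo.swap k) (h.alt w)).eq]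

theorem TA.shift (h : TA φ t κ H) {u w : M} (k : B u w = 0) (a : F) :
    H u (w + a • u) = H u w * φ (tT B u (κ * a)) := by
  rw [h.add2 u w _ ⟨k, by simp [h.alt], by simp [h.toMo.swap k]⟩, h.self]

theorem TA.shift' (h : TA φ t κ H) {u w : M} (k : B u w = 0) (a : F) :
    H (u + a • w) w = H u w * φ (tT B w (κ * a)) := by
  rw [h.add1 u _ w ⟨by simp [k], k, by simp [h.alt]⟩, h.smul, h.self]

theorem TA.com3 (h : TA φ t κ H) {u x y : M} (k : O3 B u x y) : Commute (H u x) (H u y) := by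
  rw [Commute, SemiconjBy, ← h.add2 u x y k, ← h.add2 u y x ⟨k.ux, k.uw, h.toMo.swap k.wx⟩,
    add_comm]

namespace P6a

variable (h : TA φ t κ H) {W : Submodule F M} (hW : TotIso B W) {u w x y p r s : M}
include h hW

theorem fE {a b : M} (ha : a ∈ W) (hb : b ∈ W) (hu : u ∈ W) (hw : w ∈ W) :
    Commute (φ (tE B a b)) (H u w) :=
  fixE h (hW _ ha _ hb) (hW _ ha _ hu) (hW _ ha _ hw) (hW _ hb _ hu) (hW _ hb _ hw)

theorem sw1 (hu : u ∈ W) (hw : w ∈ W) (hx : x ∈ W) (hy : y ∈ W) (c : Commute (H u w) (H x y)) :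
    Commute (H w u) (H x y) := by
  rw [h.swap u w (hW _ hu _ hw)]
  exact c.mul_left (fE h hW hu (W.smul_mem _ hw) hx hy)

theorem s11 (hp : p ∈ W) (hr : r ∈ W) (hs : s ∈ W) : Commute (H p r) (H p s) :=
  h.com3 ⟨hW _ hp _ hr, hW _ hp _ hs, hW _ hr _ hs⟩

theorem s21 (hp : p ∈ W) (hr : r ∈ W) (hs : s ∈ W) : Commute (H r p) (H p s) :=
  sw1 h hW hp hr hp hs (s11 h hW hp hr hs)

theorem s22 (hp : p ∈ W) (hr : r ∈ W) (hs : s ∈ W) : Commute (H r p) (H s p) :=
  (sw1 h hW hp hs hr hp (s21 h hW hp hr hs).symm).symm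

theorem dep (hu : u ∈ W) (hw : w ∈ W) (hx : x ∈ W) {a b c d : F} (hd : d ≠ 0)
    (e : a • u + b • w + c • x + d • y = 0) : Commute (H u w) (H x y) := by
  have e1 : y = (-a / d) • u + (-b / d) • w + (-c / d) • x := by
    have : y = d⁻¹ • (d • y) := by rw [smul_smul, inv_mul_cancel₀ hd, one_smul]
    rw [this, eq_neg_of_add_eq_zero_right e]
    match_scalars <;> field_simp
  have m1 := W.smul_mem (-a / d) hu
  have m2 := W.smul_mem (-b / d) hw
  rw [e1, h.shift (hW _ hx _ (W.add_mem m1 m2)),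
    h.add2 _ _ _ ⟨hW _ hx _ m1, hW _ hx _ m2, hW _ m1 _ m2⟩, ← h.smul, ← h.smul]
  exact ((s21 h hW hu (W.smul_mem _ hx) hw).symm.mul_right
    (s22 h hW hw hu (W.smul_mem _ hx))).mul_right (fixT h (hW _ hx _ hu) (hW _ hx _ hw) _).symm

omit h hW in
theorem sq_ins {a b c : G} (h1 : Commute c a) (h2 : Commute c b) (h3 : c * c = 1) :
    a * c * b * (a * c * b) = a * b * (a * b) := by
  rw [mul_assoc a c b, h2.eq, ← mul_assoc a b c, mul_assoc (a * b) c, ← mul_assoc c,
    (h1.mul_right h2).eq, mul_assoc (a * b) c, h3, mul_one]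

theorem z1 (hu : u ∈ W) (hw : w ∈ W) (hx : x ∈ W) (hy : y ∈ W) :
    H w u * H x y * (H w u * H x y) = H u w * H x y * (H u w * H x y) := by
  have m := W.smul_mem κ hw
  rw [h.swap u w (hW _ hu _ hw)]
  exact sq_ins (fE h hW hu m hu hw) (fE h hW hu m hx hy)
    (by rw [← map_mul, h.toMo.tE_sq (hW _ hu _ m), map_one])

omit hW in
theorem z2 {v : sIsom B} (v2 : v * v = 1) (e : H u w * H x y * (H u w * H x y) = φ v) :
    H x y * H u w * (H x y * H u w) = φ v := by
  rw [← inv_eq_of_mul_eq_one_right v2, map_inv, ← e]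
  simp only [mul_inv_rev, h.inv, mul_assoc]

theorem key1 (hu : u ∈ W) (hw : w ∈ W) (hx : x ∈ W) (hy : y ∈ W) (hp : p ∈ W)
    (c : Commute (H p w) (H x y)) {m : M} (h0 : B p m = 0) (h1 : B u m = 1) (h2 : B w m = 0)
    (h3 : B x m = 0) (h4 : B y m = 0) {v : sIsom B}
    (e : H u w * H x y * (H u w * H x y) = φ v) : Commute v (tE B p m) := by
  have f : ∀ z ∈ W, lin (tE B p m) z = z + B z m • p := fun z hz => by
    rw [h.toMo.lin_tE h0, hW _ hp _ hz, h.symm m z]; simp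
  have e1 := h.eqv (tE B p m) u w
  have e2 := h.eqv (tE B p m) x y
  rw [f u hu, f w hw, h1, h2, one_smul, zero_smul, add_zero,
    h.add1 u p w ⟨hW _ hu _ hp, hW _ hu _ hw, hW _ hp _ hw⟩] at e1
  rw [f x hx, f y hy, h3, h4, zero_smul, add_zero, add_zero] at e2
  refine (h.toMod.comm.1 (mul_inv_eq_iff_eq_mul.1 ?_)).symm
  rw [← e, ← conj_mul, ← conj_mul, e1, e2]
  exact sq_ins (s22 h hW hw hp hu) c (h.sq p w)

theorem key (hu : u ∈ W) (hw : w ∈ W) (hx : x ∈ W) (hy : y ∈ W) (k : P2 B x y) {m : M}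
    (h1 : B u m = 1) (h2 : B w m = 0) (h3 : B x m = 0) (h4 : B y m = 0) {v : sIsom B}
    (hv : v ∈ Fx B W) (e : H u w * H x y * (H u w * H x y) = φ v) : lin v m = m :=
  h.toMo.V_fix k (hv x hx) (hv y hy) h3 h4
    (key1 h hW hu hw hx hy hx (s11 h hW hx hw hy) h3 h1 h2 h3 h4 e)
    (key1 h hW hu hw hx hy hy (s21 h hW hy hx hw).symm h4 h1 h2 h3 h4 e)

omit h hW in
theorem p2_of {m m' : M} (k : B u w = 0) (h1 : B u m = 1) (h2 : B u m' = 0) (h3 : B w m' = 1) :
    P2 B u w := by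
  refine P2.iff.2 ⟨k, fun e => by simp [e] at h1, fun e => ?_⟩
  obtain ⟨a, rfl⟩ := Submodule.mem_span_singleton.1 e
  simp [h2] at h3

theorem zt (hu : u ∈ W) (hw : w ∈ W) (hx : x ∈ W) (hy : y ∈ W) :
    Commute (H u w * H x y * (H u w * H x y)) t := by
  have c1 := (fE h hW hx hy hu hw).symm
  have c2 := (fE h hW hu hw hu hw).symm.mul_left (fE h hW hu hw hx hy).symm
  have c3 := c1.mul_left (fE h hW hx hy hx hy).symm
  have e : H u w * H x y * t * (H u w * H x y)⁻¹ = t * φ (tE B u w) * φ (tE B x y) := by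
    rw [show H u w * H x y * t * (H u w * H x y)⁻¹ = H u w * (H x y * t * (H x y)⁻¹) * (H u w)⁻¹ by
      group, h.ht x y (hW _ hx _ hy), ← conj_mul, h.ht u w (hW _ hu _ hw), c1.mul_inv_cancel]
  have c4 : Commute (tE B u w) (tE B x y) := by
    have := h.toMo.tE_conj (tE B u w) (hW _ hx _ hy)
    rw [h.toMo.lin_tE (hW _ hu _ hw), h.toMo.lin_tE (hW _ hu _ hw), hW _ hu _ hx, hW _ hu _ hy,
      hW _ hw _ hx, hW _ hw _ hy] at this
    simp only [zero_smul, add_zero] at this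
    exact mul_inv_eq_iff_eq_mul.1 this
  refine mul_inv_eq_iff_eq_mul.1 ?_
  generalize H u w * H x y = a at c2 c3 e
  rw [show a * a * t * (a * a)⁻¹ = a * (a * t * a⁻¹) * a⁻¹ by group, e, ← conj_mul, ← conj_mul, e,
    c2.mul_inv_cancel, c3.mul_inv_cancel, mul_assoc, mul_assoc, mul_assoc, ← map_mul, ← map_mul,
    ← map_mul, ← mul_assoc (tE B x y), ← c4.eq, mul_assoc, h.toMo.tE_sq (hW _ hx _ hy), mul_one,
    h.toMo.tE_sq (hW _ hu _ hw), map_one, mul_one]

omit hW in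
theorem cs_Fx {W : Submodule F M} (hu : u ∈ W) (hw : w ∈ W) : H u w ∈ Cs ((Fx B W).map φ) :=
  mem_centralizer_iff.2 fun _ ⟨g, hg, e⟩ => e ▸ (h.fix (hg u hu) (hg w hw)).eq

omit hW in
theorem indep (k : O3 B u w x) (k' : O3 B u w y) (e : B x y = 0)
    (li : LinearIndependent F ![u, w, x, y]) : Commute (H u w) (H x y) := by
  have hW : TotIso B (Submodule.span F {u, w, x, y}) := h.toMo.ti_span (by
    have := k.uw; have := k.ux; have := k.wx; have := k'.ux; have := k'.wx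
    have s := h.symm
    have a := h.alt
    simp only [Set.mem_insert_iff, Set.mem_singleton_iff]
    grind)
  have hu : u ∈ Submodule.span F {u, w, x, y} := Submodule.subset_span (by simp)
  have hw : w ∈ Submodule.span F {u, w, x, y} := Submodule.subset_span (by simp)
  have hx : x ∈ Submodule.span F {u, w, x, y} := Submodule.subset_span (by simp)
  have hy : y ∈ Submodule.span F {u, w, x, y} := Submodule.subset_span (by simp)
  obtain ⟨a, ha⟩ := h.toMo.dual li ![1, 0, 0, 0]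
  obtain ⟨b, hb⟩ := h.toMo.dual li ![0, 1, 0, 0]
  obtain ⟨c, hc⟩ := h.toMo.dual li ![0, 0, 1, 0]
  obtain ⟨d, hd⟩ := h.toMo.dual li ![0, 0, 0, 1]
  have a0 : B u a = 1 := ha 0
  have a1 : B w a = 0 := ha 1
  have a2 : B x a = 0 := ha 2
  have a3 : B y a = 0 := ha 3
  have b0 : B u b = 0 := hb 0
  have b1 : B w b = 1 := hb 1
  have b2 : B x b = 0 := hb 2
  have b3 : B y b = 0 := hb 3
  have c0 : B u c = 0 := hc 0
  have c1 : B w c = 0 := hc 1
  have c2 : B x c = 1 := hc 2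
  have c3 : B y c = 0 := hc 3
  have d0 : B u d = 0 := hd 0
  have d1 : B w d = 0 := hd 1
  have d2 : B x d = 0 := hd 2
  have d3 : B y d = 1 := hd 3
  have p1 := p2_of k.uw a0 b0 b1
  have p2 := p2_of e c2 d2 d3
  obtain ⟨v, hv, o, ho, e1⟩ := h.toH1.cF hW (zt h hW hu hw hx hy)
    (mul_mem (mul_mem (cs_Fx h hu hw) (cs_Fx h hx hy)) (mul_mem (cs_Fx h hu hw) (cs_Fx h hx hy)))
  have v2 := h.toMo.sq_VW hW hv
  have vF := UM6.QW_le_Fx (h.toMo.VW_le_QW hW hv)
  have e2 := h.toH1.inverted (h.cO u w) ho v2 (h.toMo.tE_ne p1) (h.ht u w k.uw)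
    (h.fix (vF u hu) (vF w hw)).symm e1 (by
      simp only [mul_inv_rev, h.inv, mul_assoc]
      rw [← mul_assoc, h.sq, one_mul])
  have e3 := z2 h v2 e2
  have f1 := key h hW hu hw hx hy p2 a0 a1 a2 a3 vF e2
  have f2 := key h hW hw hu hx hy p2 b1 b0 b2 b3 vF ((z1 h hW hu hw hx hy).trans e2)
  have f3 := key h hW hx hy hu hw p1 c2 c3 c0 c1 vF e3
  have f4 := key h hW hy hx hu hw p1 d3 d2 d0 d1 vF ((z1 h hW hx hy hu hw).trans e3)
  have v1 : v = 1 := lin_ext fun m => by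
    rw [h.toMo.VW_eq] at hv
    have := hv (m - (B u m • a + B w m • b + B x m • c + B y m • d)) (mem_orth_span.2 (by
      rintro z (rfl | rfl | rfl | rfl) <;> simp [*]))
    simpa [f1, f2, f3, f4] using this
  rw [v1, map_one] at e2
  have := inv_eq_of_mul_eq_one_right e2
  rw [mul_inv_rev, h.inv, h.inv] at this
  exact this.symm

end P6a

theorem TA.ta2 (h : TA φ t κ H) : TA2 φ t κ H := by
  refine ⟨h, fun u w x y k k' e => ?_⟩
  by_cases li : LinearIndependent F ![u, w, x, y]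
  · exact P6a.indep h k k' e li
  have hW : TotIso B (Submodule.span F {u, w, x, y}) := h.toMo.ti_span (by
    have := k.uw; have := k.ux; have := k.wx; have := k'.ux; have := k'.wx
    have s := h.symm
    have a := h.alt
    simp only [Set.mem_insert_iff, Set.mem_singleton_iff]
    grind)
  have hu : u ∈ Submodule.span F {u, w, x, y} := Submodule.subset_span (by simp)
  have hw : w ∈ Submodule.span F {u, w, x, y} := Submodule.subset_span (by simp)
  have hx : x ∈ Submodule.span F {u, w, x, y} := Submodule.subset_span (by simp)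
  have hy : y ∈ Submodule.span F {u, w, x, y} := Submodule.subset_span (by simp)
  obtain ⟨g, hg, i, hi⟩ := Fintype.not_linearIndependent_iff.1 li
  rw [Fin.sum_univ_four] at hg
  change g 0 • u + g 1 • w + g 2 • x + g 3 • y = 0 at hg
  fin_cases i
  · exact (P6a.sw1 h hW hw hu hx hy (P6a.dep h hW hx hy hw (a := g 2) (b := g 3) (c := g 1) hi
      (by rw [← hg]; abel)).symm)
  · exact (P6a.dep h hW hx hy hu (a := g 2) (b := g 3) (c := g 0) hi (by rw [← hg]; abel)).symm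
  · exact (P6a.sw1 h hW hy hx hu hw (P6a.dep h hW hu hw hy (a := g 0) (b := g 1) (c := g 3) hi
      (by rw [← hg]; abel)).symm).symm
  · exact P6a.dep h hW hu hw hx hi hg

end Cfsg.Lib.SP7
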