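import Cfsg.Agent.SP7.K1
import Cfsg.Agent.SP7.K2
import Cfsg.Agent.SP7.K3
import Cfsg.Agent.SP7.K4
import Cfsg.Agent.SP7.KIT
import Cfsg.Agent.SP7.P1a
import Cfsg.Agent.SP7.P2a
import Cfsg.Agent.SP7.P2c

/-! # The three fusion patterns -/

set_option autoImplicit false
set_option linter.unusedSectionVars false

namespace Cfsg.Lib.SP7

open Subgroup Module Cfsg.Lib.Trans Cfsg.Lib.Gold Cfsg.Lib.Class.Form Cfsg.Lib.Class.FAut
open Cfsg.Lib.UM6 (tT tE VW RR Fx St QW Cf mp Semi fa Mp cx re Ot kk Mx Fr3)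
open Cfsg.Lib.SG2 (Uq Top)
open Cfsg.Lib.Comp (Tw)
open scoped commutatorElement

variable {G F M : Type*} [Group G] [Finite G] [Field F] [Finite F] [AddCommGroup M] [Module F M]
  [FiniteDimensional F M] {B : M →ₗ[F] M →ₗ[F] F} {φ φ' : sIsom B →* G} {t : G}

theorem H1.trQ (h : H1 φ t) {u : M} (u0 : u ≠ 0) {v : sIsom B} (hv : v ∈ Qu B u)
    (e : IsConj t (t * φ v)) : ∃ n ∈ Ns (AA φ t (Qu B u)), n * t * n⁻¹ = t * φ v := by
  obtain ⟨x, c, hx, rfl⟩ := (h.toMo.mem_Q u0).1 hv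
  by_cases k : x ∈ F ∙ u
  · obtain ⟨a, rfl⟩ := Submodule.mem_span_singleton.1 k
    rw [h.toMo.ee_self] at e hv ⊢
    obtain ⟨n, hn, e1⟩ := h.p2b u0 e
    refine ⟨n, mem_normalizer_of_cj_le ?_, e1⟩
    rw [cj_sup, cj_zpowers, e1, mem_Ns_iff.1 (h.toMod.Ns_P u0 hn).1]
    exact sup_le (zpowers_le.2 (h.toHyp.mem_AA.2 ⟨_, hv, Or.inr rfl⟩)) le_sup_right
  · exact h.p2c (P2.iff.2 ⟨hx, u0, k⟩) e

theorem H1.all_ee (h : H1 φ t) {u x u' x' : M} (k : P2 B u x) (k' : P2 B u' x') {c c' : F}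
    (hc : c = 0 ↔ c' = 0) (e : IsConj t (t * φ (ee B u x c))) :
    IsConj t (t * φ (ee B u' x' c')) := by
  obtain ⟨a, a0, ha⟩ : ∃ a : F, a ≠ 0 ∧ a * a * c = c' := by
    by_cases c0 : c = 0
    · exact ⟨1, one_ne_zero, by rw [hc.1 c0, c0, mul_zero]⟩
    · obtain ⟨a, ha⟩ := h.toMo.exists_sq (c' / c)
      have : a * a * c = c' := by rw [ha, div_mul_cancel₀ _ c0]
      exact ⟨a, fun a0 => c0 (hc.2 (by rw [← this, a0, zero_mul, zero_mul])), this⟩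
  obtain ⟨g, g1, g2⟩ := h.toMo.tr2 k (k'.smul a0 (inv_ne_zero a0))
  have := h.toHyp.isConj g e
  rwa [h.toMo.ee_conj g k.uw, g1, g2, h.toMo.ee_smul (by rw [map_smul, k'.uw, smul_zero]),
    smul_inv_smul₀ a0, ha] at this

theorem H1.NsQ (h : H1 φ t) {u x : M} (k : P2 B u x) {c : F} (e : IsConj t (t * φ (ee B u x c))) :
    Ns (AA φ t (Qu B u)) ≤ Ns ((Qu B u).map φ) := fun n hn => by
  have om : ∀ s ∈ AA φ t (Qu B u), IsConj t s → ∃ v ∈ Qu B u, n * s * n⁻¹ = t * φ v :=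
    fun s hs e => by
      obtain ⟨v, hv, e1⟩ := h.toHyp.mem_AA.1 (mem_normalizer_conj hn hs)
      exact ⟨v, hv, e1.resolve_left fun e1 =>
        h.nQ k.ne hv (e.trans (isConj_iff.2 ⟨n, e1⟩))⟩
  refine mem_normalizer_of_cj_le (cj_le_iff_le_cj_inv.2 (map_le_iff_le_comap.2
    (h.toMo.gen_Qc k.ne (c := c) fun y hy => mem_cj_inv.2 ?_)))
  obtain ⟨v, hv, e1⟩ := om t (mem_sup_left (mem_zpowers t)) (IsConj.refl t)
  obtain ⟨w, hw, e2⟩ := om _ (h.toHyp.mem_AA.2 ⟨_, h.toMo.ee_mem_Q hy.uw c, Or.inr rfl⟩)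
    (h.all_ee k hy Iff.rfl e)
  refine ⟨v * w, mul_mem hv hw, ?_⟩
  calc φ (v * w) = t * φ v * (t * φ w) := by
        rw [map_mul, (h.tc v).eq, mul_assoc, ← mul_assoc t, h.t2, one_mul]
    _ = _ := by rw [← e1, ← e2, conj_mul, ← mul_assoc t, h.t2, one_mul]

theorem H1.all_T (h : H1 φ t) {u u' : M} (u0 : u ≠ 0) (u0' : u' ≠ 0) {c c' : F} (c0 : c ≠ 0)
    (c0' : c' ≠ 0) (e : IsConj t (t * φ (tT B u c))) : IsConj t (t * φ (tT B u' c')) := by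
  obtain ⟨a, a1, a2⟩ := h.toMo.tT_sqrt u c
  obtain ⟨b, b1, b2⟩ := h.toMo.tT_sqrt u' c'
  obtain ⟨g, hg⟩ := h.toMo.tr1 (smul_ne_zero (r := a) (fun e => c0 (by rw [← a1, e, zero_mul])) u0)
    (smul_ne_zero (r := b) (fun e => c0' (by rw [← b1, e, zero_mul])) u0')
  have := h.toHyp.isConj g e
  rwa [a2, h.toMo.tT_conj, hg, ← b2] at this

theorem NA.nc' (h : H1 φ t) (k : NA φ t) {u x : M} (k' : P2 B u x) {c : F} (c0 : c ≠ 0) :
    ¬ IsConj t (t * φ (ee B u x c)) := by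
  obtain ⟨a, rfl⟩ := h.toMo.exists_sq c
  have a0 : a ≠ 0 := left_ne_zero_of_mul c0
  rw [h.toMo.ee_TT k'.uw a0]
  refine k.nc _ _ ?_
  have := (((k'.smul a0 (inv_ne_zero a0)).symm h.toMo).add h.toMo 1).symm h.toMo
  rwa [one_smul] at this

namespace P2d

theorem cc (h : H1 φ t) {n : G} {u x₀ x : M} {c₀ : F} (hn : n ∈ Ns ((Qu B u).map φ))
    (h0 : B u x₀ = 0) (e : n * t * n⁻¹ = t * φ (ee B u x₀ c₀)) (k : P2 B u x) (h1 : B x₀ x = 0) :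
    ∃ x' c', P2 B u x' ∧ c' ≠ 0 ∧ n⁻¹ * φ (ee B u x 1) * n = φ (ee B u x' c') := by
  have m := h.toMo
  obtain ⟨p, p1, p2⟩ := m.dual2 k.ne k.not_mem 0 1
  have e1 := m.comm_T p1 k.uw 0 1
  rw [p2, mul_one, one_smul, mul_one] at e1
  obtain ⟨y, y1, y2⟩ := h.rf k.ne hn h0 e k.uw h1
  obtain ⟨v, hv, e2⟩ := mem_normalizer_conj' hn (mem_map_of_mem φ (m.ee_mem_Q p1 0))
  have e3 : n⁻¹ * φ (ee B u x 1) * n = φ ⁅tT B y 1, v⁆ := by
    rw [← e1, commutatorElement_def, commutatorElement_def, map_mul φ _ v⁻¹, ← y2 v hv, map_inv, e2]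
    simp only [map_mul, map_inv]
    group
  obtain ⟨q, d, q1, rfl⟩ := (m.mem_Q k.ne).1 hv
  rw [m.comm_T q1 y1, one_mul] at e3
  have a0 : B y q ≠ 0 := fun a0 => by
    rw [a0, zero_smul, zero_mul, m.ee_zero', m.tT_zero, map_one, mul_assoc, inv_mul_eq_one,
      right_eq_mul, map_eq_one_iff φ h.inj, m.ee_eq_one k.ne k.uw] at e3
    exact one_ne_zero e3.2
  refine ⟨_, _, ?_, mul_ne_zero a0 a0, e3⟩
  have := (P2.iff.2 ⟨y1, k.ne, fun hy => a0 (by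
    obtain ⟨s, rfl⟩ := Submodule.mem_span_singleton.1 hy
    rw [map_smul, LinearMap.smul_apply, q1, smul_zero])⟩).smul one_ne_zero a0
  rwa [one_smul] at this

theorem key (h : H1 φ t) {u x₀ x : M} {c₀ : F} (k₀ : P2 B u x₀)
    (e : IsConj t (t * φ (ee B u x₀ c₀))) (k : P2 B u x) (h1 : B x₀ x = 0) :
    IsConj t (t * φ (ee B u (x₀ + x) (c₀ + 1))) ↔ IsConj t (t * φ (ee B u x 1)) := by
  obtain ⟨n, hn, e1⟩ := h.trQ k.ne (h.toMo.ee_mem_Q k₀.uw c₀) e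
  obtain ⟨x', c', k', c0, e2⟩ := cc h (h.NsQ k₀ e hn) k₀.uw e1 k h1
  have e3 : IsConj (t * φ (ee B u x' c')) (t * φ (ee B u (x₀ + x) (c₀ + 1))) :=
    isConj_iff.2 ⟨n, by
      have := h.toMo.ee_mul k₀.uw k.uw c₀ 1
      rw [h1, add_zero] at this
      rw [← this, map_mul, ← mul_assoc t, ← e1, ← e2]; group⟩
  have q : c' = 0 ↔ (1 : F) = 0 := iff_of_false c0 one_ne_zero
  exact ⟨fun a => h.all_ee k' k q (a.trans e3.symm), fun a => (h.all_ee k k' q.symm a).trans e3⟩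

end P2d

theorem H1.pat (h : H1 φ t) {u : M} (u0 : u ≠ 0) {v : sIsom B} (hv : v ∈ Qu B u) (v1 : v ≠ 1)
    (e : IsConj t (t * φ v)) :
    ((∀ u w, P2 B u w → ¬ IsConj t (t * φ (tE B u w))) ∧
      (∀ u w, P2 B u w → ¬ IsConj t (t * φ (tT B u 1 * tT B w 1))) ∧
      ∀ u, u ≠ 0 → IsConj t (t * φ (tT B u 1))) ∨
    ((∀ u w, P2 B u w → IsConj t (t * φ (tE B u w))) ∧
      (NA φ t ∨ ∀ u, u ≠ 0 → IsConj t (t * φ (tT B u 1)))) := by
  have m := h.toMo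
  obtain ⟨w, k⟩ := m.ext2 u0
  have nc : ¬ IsConj t (t * φ (ee B u w 1)) →
      ∀ u w, P2 B u w → ¬ IsConj t (t * φ (tT B u 1 * tT B w 1)) := fun n u' w' k' a => by
    have := ((k'.symm m).add m 1).symm m
    rw [one_smul] at this
    rw [m.TT_ee k'.uw] at a
    exact n (h.all_ee this k Iff.rfl a)
  have al : IsConj t (t * φ (tT B u 1)) → ∀ u, u ≠ 0 → IsConj t (t * φ (tT B u 1)) :=
    fun a u' u0' => h.all_T u0 u0' one_ne_zero one_ne_zero a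
  by_cases ha : IsConj t (t * φ (ee B u w 0))
  · refine Or.inr ⟨fun u' w' k' => m.ee_zero u' w' ▸ h.all_ee k k' Iff.rfl ha, ?_⟩
    have := P2d.key h k ha k (m.alt w)
    rw [m.vadd_self, zero_add, m.ee_zero'] at this
    by_cases hc : IsConj t (t * φ (ee B u w 1))
    · exact Or.inr (al (this.2 hc))
    · exact Or.inl ⟨fun u' u0' a => hc (this.1 (h.all_T u0' u0 one_ne_zero one_ne_zero a)), nc hc⟩
  · have hc : ¬ IsConj t (t * φ (ee B u w 1)) := fun hc => by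
      obtain ⟨x, x1, x2, x3⟩ := m.out2 k.uw
      obtain ⟨-, k1, -, k2⟩ := (P3.iff.2 ⟨k, x1, x2, x3⟩).p2 m
      have := (P2d.key h k hc k1 x2).2 (h.all_ee k k1 Iff.rfl hc)
      rw [m.add_self] at this
      exact ha (h.all_ee k2 k Iff.rfl this)
    refine Or.inl ⟨fun u' w' k' a => ha (h.all_ee k' k Iff.rfl (m.ee_zero u' w' ▸ a)), nc hc, al ?_⟩
    obtain ⟨x, c, hx, rfl⟩ := (m.mem_Q u0).1 hv
    by_cases q : x ∈ F ∙ u
    · obtain ⟨a, rfl⟩ := Submodule.mem_span_singleton.1 q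
      rw [m.ee_self] at e v1
      exact h.all_T u0 u0 (fun c0 => v1 (by rw [c0, m.tT_zero])) one_ne_zero e
    · have k' := P2.iff.2 ⟨hx, u0, q⟩
      by_cases c0 : c = 0
      · exact absurd (h.all_ee k' k (iff_of_true c0 rfl) e) ha
      · exact absurd (h.all_ee k' k (iff_of_false c0 one_ne_zero) e) hc

end Cfsg.Lib.SP7
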