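import Cfsg.Agent.SP7.K1
import Cfsg.Agent.SP7.LDa
import Cfsg.Agent.SP7.P3k
import Cfsg.Agent.SP7.P6a

/-!
# Standard subgroups of symplectic type: the additivity defect centralises `P_w`
-/

set_option autoImplicit false
set_option linter.unusedSectionVars false
set_option linter.unusedVariables false

namespace Cfsg.Lib.SP7

open Subgroup Module Cfsg.Lib.Trans Cfsg.Lib.Gold Cfsg.Lib.Class.Form Cfsg.Lib.Class.FAut
open Cfsg.Lib.UM6 (tT tE VW RR Fx St QW Cf mp Semi fa Mp cx re Ot kk Mx Fr3)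
open Cfsg.Lib.SG2 (Uq Top)
open Cfsg.Lib.Comp (Tw)
open scoped commutatorElement

variable {G F M : Type*} [Group G] [Finite G] [Field F] [Finite F] [AddCommGroup M] [Module F M]
  [FiniteDimensional F M] {B : M →ₗ[F] M →ₗ[F] F} {φ φ' : sIsom B →* G} {t : G} {κ β : F}
  {H : M → M → G}

namespace P6b

variable (h : TA φ t κ H) {w y y' z : M}
include h

theorem ksX (h1 : B w y = 0) (h2 : B w y' = 0) :
    KS φ t κ (XX H w y y') w 0 ((1 + κ) * B y y') := by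
  have h3 : B w (y + y') = 0 := by simp [h1, h2]
  have := KS.mul h.toH1 h3 h3 (KS.mul h.toH1 h1 h2 (h.ksH h1) (h.ksH h2)) (h.ksH h3)
  rwa [h.toMo.vadd_self, h.alt, mul_zero, add_zero, add_zero, add_zero, zero_add] at this

theorem xt (h1 : B w y = 0) (h2 : B w y' = 0) :
    XX H w y y' * t * (XX H w y y')⁻¹ = t * φ (tT B w ((1 + κ) * B y y')) := by
  rw [← h.toMo.ee_zero']
  exact (ksX h h1 h2).1

theorem x0 : XX H 0 y y' = 1 := by simp [XX, h.zero']

theorem x1 (k : O3 B w y y') : XX H w y y' = 1 := by rw [XX, ← h.add2 _ _ _ k, h.sq]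

theorem xT (h1 : B w z = 0) (h2 : B y z = 0) (h3 : B y' z = 0) (c : F) :
    Commute (φ (tT B z c)) (XX H w y y') := by
  have a1 := h.toMo.swap h1
  have a2 := h.toMo.swap h2
  have a3 := h.toMo.swap h3
  exact ((P6a.fixT h a1 a2 c).mul_right (P6a.fixT h a1 a3 c)).mul_right
    (P6a.fixT h a1 (by simp [a2, a3]) c)

theorem T_Cs (w : M) (c : F) : φ (tT B w c) ∈ Cs ((Pu B w).map φ) :=
  mem_centralizer_iff.2 fun _ ⟨g, hg, e⟩ => by
    have := h.toMo.tT_conj g w c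
    rw [UM6.mem_Fx1.1 hg] at this
    rw [← e, ← map_mul, ← map_mul, mul_inv_eq_iff_eq_mul.1 this]

omit h in
theorem L_Cs {c : G} (hc : c ∈ Cs φ.range) (A : Subgroup (sIsom B)) : c ∈ Cs (A.map φ) :=
  centralizer_le (map_le_range φ A) hc

theorem not_mem (k : z ∉ l2 F w y) : z ∉ F ∙ w := fun e =>
  k (Submodule.span_mono (by simp) e)

omit h in
theorem eq_zero {a : F} (k : z ∉ F ∙ w) (e : a • z ∈ F ∙ w) : a = 0 :=
  by_contra fun n => k ((Submodule.smul_mem_iff _ n).1 e)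

end P6b

theorem TA2.xE (h : TA2 φ t κ H) {w y y' : M} (w0 : w ≠ 0) (h1 : B w y = 0) (h2 : B w y' = 0)
    (h3 : B y y' ≠ 0) : ∃ p, B w p = 0 ∧ φ (tE B w p) * XX H w y y' ∈ Cs ((Pu B w).map φ) := by
  have cq := KS.cq h.toH1 w0 (P6b.ksX h.toTA h1 h2)
  have xt := P6b.xt h.toTA h1 h2
  by_cases k1 : κ = 1
  · rw [k1, h.toMo.add_self, zero_mul, h.toMo.tT_zero, map_one, mul_one] at xt
    obtain ⟨v, hv, o, ho, e⟩ := h.toH1.cQ w0 (mul_inv_eq_iff_eq_mul.1 xt) cq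
    obtain ⟨p, c, hp, rfl⟩ := (h.toMo.mem_Q w0).1 hv
    have e1 : φ (tE B w p) * φ (ee B w p c) = φ (tT B w c) := by
      rw [← map_mul, ee, ← mul_assoc, h.toMo.tE_sq hp, one_mul]
    have m1 := P6b.L_Cs (Ot_le ho).2 (Pu B w)
    refine ⟨p, hp, ?_⟩
    rcases e with e | e <;> rw [e]
    · rw [← mul_assoc, e1]
      exact mul_mem (P6b.T_Cs h.toTA w c) m1
    · rw [← mul_assoc, ← mul_assoc, ← (h.tc _).eq, mul_assoc t, e1]
      exact mul_mem (mul_mem (P6b.L_Cs h.toHyp.tC _) (P6b.T_Cs h.toTA w c)) m1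
  have hA := h.cas.resolve_left fun k => k1 k.1
  obtain ⟨s, hs⟩ := h.toMo.exists_sq ((1 + κ) * B y y')
  have s0 : s ≠ 0 := by
    rintro rfl
    rw [mul_zero, eq_comm, mul_eq_zero] at hs
    exact k1 (by linear_combination hs.resolve_right h3 - h.two)
  have u0 := smul_ne_zero s0 w0
  have ld : LD φ t (XX H w y y') (s • w) := LD.of_cq h.toH1 hA u0
    (by rw [Qu, span_smul1 w s0]; exact cq) (by rw [h.toMo.tT_smul, mul_one, hs, xt])
  obtain ⟨l, m, l0, l1, l2, l3⟩ := ld.act h.toH1 u0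
  obtain ⟨z, z1, z2, z3, z4, -⟩ := h.toMo.out3 w0 h1 h2
  have z5 : B (s • w) z = 0 := by simp [z1]
  have e := l3 z z5
  rw [(P6b.xT h.toTA z1 z2 z3 1).symm.mul_inv_cancel, h.toMo.tT_shift z5] at e
  have e := h.inj e
  rw [mul_assoc, left_eq_mul, ee, mul_assoc, ← h.toMo.tT_add, ← ee,
    h.toMo.ee_eq_one u0 (by simp [z1]), span_smul1 w s0] at e
  have m0 : m = 0 := by
    have := e.2
    rw [P6b.eq_zero (P6b.not_mem h.toTA z4) e.1, mul_zero, zero_add] at this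
    exact mul_self_eq_zero.1 this
  subst m0
  obtain ⟨p, hp, -, e⟩ := LD.as_E h.toH1 u0 l0 l1 (fun y z a b => by simpa using l2 y z a b)
    (fun y a => by simpa [h.toMo.tT_zero] using l3 y a)
  have hp' : B w p = 0 := by simpa [s0] using hp
  rw [Pu, span_smul1 w s0, h.toMo.tE_smul hp'] at e
  exact ⟨s • p, by simp [hp'], e⟩

theorem TA2.xc (h : TA2 φ t κ H) {w y y' : M} (h1 : B w y = 0) (h2 : B w y' = 0) :
    XX H w y y' ∈ Cs ((Pu B w).map φ) := by
  by_cases w0 : w = 0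
  · rw [w0, P6b.x0 h.toTA]; exact one_mem _
  by_cases h3 : B y y' = 0
  · rw [P6b.x1 h.toTA ⟨h1, h2, h3⟩]; exact one_mem _
  obtain ⟨p, hp, e⟩ := h.xE w0 h1 h2 h3
  have cm : ∀ g, lin g w = w → Commute (φ g) (XX H w y y') → lin g p + p ∈ F ∙ w := fun g hg c => by
    rw [← h.toMo.comm_ee w0 hp hg 0, h.toMo.ee_zero, ← h.toMod.comm]
    have c' : Commute (φ g) (φ (tE B w p) * XX H w y y') :=
      mem_centralizer_iff.1 e _ (mem_map_of_mem φ (UM6.mem_Fx1.2 hg))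
    have := c'.mul_right c.inv_right
    rwa [mul_inv_cancel_right] at this
  obtain ⟨z, z1, z2, z3, z4, -⟩ := h.toMo.out3 w0 h1 h2
  have z5 := P6b.not_mem h.toTA z4
  have hs : p ∈ Submodule.span F {y, y', w} := h.toMo.mem_span' (z₀ := z)
    (by rintro x (rfl | rfl | rfl) <;> assumption) z5 fun x hx hx' => by
      have a1 := hx w (by simp)
      have := cm (tT B x 1) (by rw [h.toMo.lin_tT, h.toMo.swap a1]; simp)
        (P6b.xT h.toTA a1 (hx y (by simp)) (hx y' (by simp)) 1)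
      rw [h.toMo.lin_tT, add_right_comm, h.toMo.vadd_self, zero_add, one_mul] at this
      exact h.toMo.swap (P6b.eq_zero hx' this)
  obtain ⟨a, b, c, rfl⟩ := Submodule.mem_span_triple.1 hs
  have h4 : B w (y + y') = 0 := by simp [h1, h2]
  have z6 : B (y + y') z = 0 := by simp [z2, z3]
  have c1 := h.toTA.com3 ⟨h2, z1, z3⟩
  have c2 := h.toTA.com3 ⟨h4, z1, z6⟩
  obtain ⟨g, g1, g2, g3⟩ := h.toMo.trh (y' := y + z) (z' := y') w0 h1 h2 h3 w0 (by simp [h1, z1]) h2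
    (by simp [h.toMo.swap z3])
  obtain ⟨k, k1, k2, k3⟩ := h.toMo.trh (y' := y) (z' := y' + z) w0 h1 h2 h3 w0 h1 (by simp [h2, z1])
    (by simp [z2])
  have e1 := cm g g1 (mul_inv_eq_iff_eq_mul.1 (by
    rw [XX, ← conj_mul, ← conj_mul, h.eqv, h.eqv, h.eqv, map_add, g1, g2, g3, add_right_comm,
      h.add2 _ _ _ ⟨h1, z1, z2⟩, h.add2 _ _ _ ⟨h4, z1, z6⟩, mul_assoc (H w y), ← c1.eq, c2.eq]
    simp only [mul_assoc]
    rw [← mul_assoc (H w z), h.sq, one_mul]))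
  have e2 := cm k k1 (mul_inv_eq_iff_eq_mul.1 (by
    rw [XX, ← conj_mul, ← conj_mul, h.eqv, h.eqv, h.eqv, map_add, k1, k2, k3, ← add_assoc,
      h.add2 _ _ _ ⟨h2, z1, z3⟩, h.add2 _ _ _ ⟨h4, z1, z6⟩, c2.eq]
    simp only [mul_assoc]
    rw [← mul_assoc (H w z), h.sq, one_mul]))
  simp only [map_add, map_smul, g1, g2, g3, k1, k2, k3] at e1 e2
  have a0 : a = 0 := P6b.eq_zero z5 (by
    convert e1 using 1
    rw [← h.toMo.vsub]; module)
  have b0 : b = 0 := P6b.eq_zero z5 (by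
    convert e2 using 1
    rw [← h.toMo.vsub]; module)
  rwa [a0, b0, zero_smul, zero_smul, zero_add, zero_add, h.toMo.tE_self, map_one, one_mul] at e

end Cfsg.Lib.SP7
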