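import Cfsg.Agent.SP7.K1
import Cfsg.Agent.SP7.K4
import Cfsg.Agent.SP7.P2d
import Cfsg.Agent.SP7.P3k

/-!
# The constant kappa
-/

set_option autoImplicit false
set_option linter.unusedSectionVars false

namespace Cfsg.Lib.SP7

open Subgroup Module Cfsg.Lib.Trans Cfsg.Lib.Gold Cfsg.Lib.Class.Form Cfsg.Lib.Class.FAut
open Cfsg.Lib.UM6 (tT tE VW RR Fx St QW Cf mp Semi fa Mp cx re Ot kk Mx Fr3)
open Cfsg.Lib.SG2 (Uq Top)
open Cfsg.Lib.Comp (Tw)
open scoped commutatorElement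

variable {G F M : Type*} [Group G] [Finite G] [Field F] [Finite F] [AddCommGroup M] [Module F M]
  [FiniteDimensional F M] {B : M →ₗ[F] M →ₗ[F] F} {φ φ' : sIsom B →* G} {t : G}

namespace P3c

variable {n n' : G} {u x : M} {c c' : F} {χ : M → F}

/-- `n` acts on `Q_u` by the character `χ`. -/
def Ac (φ : sIsom B →* G) (n : G) (u : M) (χ : M → F) : Prop :=
  ∀ y, B u y = 0 → ∀ d, n * φ (ee B u y d) * n⁻¹ = φ (ee B u y (d + χ y))

theorem Ac_eq_1 : type_of% @Ac.eq_1 := @Ac.eq_1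

theorem inj (h : H1 φ t) (u0 : u ≠ 0) {y : M} (hy : B u y = 0) {d d' : F}
    (e : φ (ee B u y d) = φ (ee B u y d')) : d = d' :=
  ((h.toMo.ee_inj u0 hy hy).1 (h.inj e)).2

theorem chi (h : H1 φ t) (u0 : u ≠ 0) (hx : B u x = 0) (k : KK φ t n u x c) :
    ∃ χ, Ac φ n u χ ∧ (∀ y z, B u y = 0 → B u z = 0 → χ (y + z) = χ y + χ z) ∧
      ∀ y, B u y = 0 → B x y = 0 → χ y = 0 := by
  have ex : ∀ y, ∃ d, B u y = 0 → n * φ (ee B u y 0) * n⁻¹ = φ (ee B u y d) := fun y => by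
    by_cases hy : B u y = 0
    · obtain ⟨d, e⟩ := k.2 y hy 0
      exact ⟨d, fun _ => e⟩
    · exact ⟨0, fun e => absurd e hy⟩
  choose χ hχ using ex
  have a : Ac φ n u χ := fun y hy d => by
    have z : B u 0 = 0 := map_zero _
    have c1 := k.cB h u0 hx z (map_zero _) d
    have e1 := h.toMo.ee_mul hy z 0 d
    have e2 := h.toMo.ee_mul hy z (χ y) d
    rw [add_zero, map_zero, add_zero, zero_add] at e1
    rw [add_zero, map_zero, add_zero, add_comm] at e2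
    rw [← e1, ← e2, map_mul, map_mul, ← conj_mul, hχ y hy, c1.eq, mul_inv_cancel_right]
  refine ⟨χ, a, fun y z hy hz => ?_, fun y hy hxy => ?_⟩
  · have hyz : B u (y + z) = 0 := by rw [map_add, hy, hz, add_zero]
    have e := a (y + z) hyz (0 + 0 + B y z)
    rw [← h.toMo.ee_mul hy hz, map_mul, ← conj_mul, a y hy, a z hz, ← map_mul,
      h.toMo.ee_mul hy hz] at e
    linear_combination -inj h u0 hyz e
  · have e := a y hy 0
    rw [(k.cB h u0 hx hy hxy 0).eq, mul_inv_cancel_right] at e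
    linear_combination -inj h u0 hy e

theorem rigid (h : H1 φ t) (u0 : u ≠ 0) (hx : B u x = 0) (k : KK φ t n u x c)
    (k' : KK φ t n' u x c') (a : Ac φ n u χ) : Ac φ n' u χ := fun y hy d => by
  obtain ⟨d1, k1⟩ := k.inv h u0 hx
  obtain ⟨d2, k2⟩ := k1.mul h hx hx k'
  rw [h.toMo.vadd_self] at k2
  have c1 := k2.cB h u0 (map_zero _) hy (by rw [map_zero, LinearMap.zero_apply]) d
  rw [← a y hy, show n' * φ (ee B u y d) * n'⁻¹ =
    n * (n⁻¹ * n' * φ (ee B u y d) * (n⁻¹ * n')⁻¹) * n⁻¹ by group, c1.eq, mul_inv_cancel_right]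

theorem Ac.cj (h : H1 φ t) {ψ : F → F} (a : Ac φ n u fun y => ψ (B x y)) (g : sIsom B) :
    Ac φ (φ g * n * (φ g)⁻¹) (lin g u) fun y => ψ (B (lin g x) y) := fun y hy d => by
  obtain ⟨y, rfl⟩ : ∃ z, y = lin g z := ⟨lin g⁻¹ y, (lin_lin_inv g y).symm⟩
  rw [lin_isom] at hy
  simp only [lin_isom]
  rw [← h.toMo.ee_conj g hy, ← h.toMo.ee_conj g hy, map_mul, map_mul, map_mul, map_mul, map_inv,
    ← a y hy]
  group

theorem smul (h : H1 φ t) (hx : B u x = 0) {a : F} (ha : a ≠ 0) (k : KK φ t n (a • u) x c)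
    (e : Ac φ n (a • u) χ) : KK φ t n u (a • x) (a * a * c) ∧
      Ac φ n u fun y => a * a * χ (a⁻¹ • y) := by
  have e' : Ac φ n u fun y => a * a * χ (a⁻¹ • y) := fun y hy d => by
    have hy' : B u (a⁻¹ • y) = 0 := by rw [map_smul, hy, smul_zero]
    have := e (a⁻¹ • y) (by rw [map_smul, map_smul, LinearMap.smul_apply, hy]; simp)
      (a⁻¹ * a⁻¹ * d)
    rw [h.toMo.ee_smul hy', h.toMo.ee_smul hy', smul_inv_smul₀ ha] at this
    rw [show d = a * a * (a⁻¹ * a⁻¹ * d) by field_simp, this]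
    congr 2
    ring
  exact ⟨⟨by rw [k.1, h.toMo.ee_smul hx], fun y hy d => ⟨_, e' y hy d⟩⟩, e'⟩

theorem kappa (h : H1 φ t) (k : ∀ u x, u ≠ 0 → B u x = 0 → ∃ n c, KK φ t n u x c) :
    ∃ κ c, ∀ u x, P2 B u x → ∃ n, KS φ t κ n u x c := by
  obtain ⟨u, u0⟩ := h.toMo.exists_ne
  obtain ⟨x, p⟩ := h.toMo.ext2 u0
  obtain ⟨n, c, kn⟩ := k u x u0 p.uw
  obtain ⟨χ, a, h1, h2⟩ := chi h u0 p.uw kn
  choose z hz hz' using fun s => h.toMo.dual2 u0 p.not_mem 0 s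
  have a' : Ac φ n u fun y => χ (z (B x y)) := fun y hy d => by
    have := h2 (y + z (B x y)) (by rw [map_add, hy, hz, add_zero])
      (by rw [map_add, hz', h.toMo.add_self])
    rw [h1 y _ hy (hz _)] at this
    rw [a y hy, show χ y = χ (z (B x y)) by linear_combination this - h.toMo.add_self (χ (z (B x y)))]
  have all : ∀ u' x', P2 B u' x' → ∃ n', KK φ t n' u' x' c ∧ Ac φ n' u' fun y => χ (z (B x' y)) :=
    fun u' x' p' => by
      obtain ⟨g, rfl, rfl⟩ := h.toMo.tr2 p p'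
      exact ⟨_, kn.cj h p.uw g, Ac.cj h (ψ := fun s => χ (z s)) a' g⟩
  have lin : ∀ s, χ (z s) = χ (z 1) * s := fun s => by
    by_cases s0 : s = 0
    · rw [s0, h2 _ (hz 0) (hz' 0), mul_zero]
    obtain ⟨b, rfl⟩ := h.toMo.exists_sq s
    have b0 : b ≠ 0 := fun e => s0 (by rw [e, mul_zero])
    obtain ⟨n1, k1, a1⟩ := all _ _ (by simpa using p.smul b0 one_ne_zero : P2 B (b • u) x)
    obtain ⟨k2, a2⟩ := smul h p.uw b0 k1 a1
    have p2 : P2 B u (b • x) := by simpa using p.smul one_ne_zero b0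
    obtain ⟨n3, k3, a3⟩ := all _ _ p2
    have e := (rigid h u0 p2.uw k3 k2 a3 (z b) (hz b) 0).symm.trans (a2 (z b) (hz b) 0)
    have := inj h u0 (hz b) e
    simp only [map_smul, LinearMap.smul_apply, hz', smul_eq_mul, inv_mul_cancel₀ b0, zero_add] at this
    rw [this, mul_comm]
  refine ⟨χ (z 1), c, fun u' x' p' => ?_⟩
  obtain ⟨n', k', a''⟩ := all u' x' p'
  exact ⟨n', k'.1, fun y hy d => by rw [a'' y hy, ← lin]⟩

end P3c

theorem H2.h3 (h : H2 φ t) (k : ∀ u x, u ≠ 0 → B u x = 0 → ∃ n c, KK φ t n u x c) :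
    ∃ κ, H3 φ t κ := by
  obtain ⟨κ, c, hk⟩ := P3c.kappa h.toH1 k
  have ks : ∀ u x, u ≠ 0 → B u x = 0 → ∃ n, KS φ t κ n u x 0 := fun u x u0 hx => by
    by_cases hm : x ∈ F ∙ u
    · obtain ⟨a, rfl⟩ := Submodule.mem_span_singleton.1 hm
      refine ⟨1, by rw [h.toMo.ee_self, h.toMo.tT_zero, map_one]; group, fun y hy d => ?_⟩
      rw [map_smul, LinearMap.smul_apply, hy, smul_zero, mul_zero, add_zero]
      group
    have p : P2 B u x := P2.iff.2 ⟨hx, u0, hm⟩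
    obtain ⟨n, kn⟩ := hk u x p
    by_cases c0 : c = 0
    · exact ⟨n, c0 ▸ kn⟩
    rcases h.cas with hN | hA
    · exact absurd (isConj_iff.2 ⟨n, kn.1⟩) (hN.nc' h.toH1 p c0)
    obtain ⟨a, ha, e⟩ := h.toMo.tT_sqrt u c
    have a0 : a ≠ 0 := fun e => c0 (by rw [← ha, e, mul_zero])
    obtain ⟨d, hd⟩ := hA _ (smul_ne_zero a0 u0)
    have h1 := hd.cq
    rw [Qu, span_smul1 u a0] at h1
    have := kn.mul h.toH1 hx (map_zero _) (KS.of_cq (κ := κ) h.toH1 h1 (e ▸ hd.tr))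
    rw [add_zero, map_zero, mul_zero, add_zero, h.toMo.add_self] at this
    exact ⟨_, this⟩
  refine ⟨κ, h.toH1, h.cas.imp_left fun hN => ⟨?_, hN⟩, ks⟩
  obtain ⟨u, u0⟩ := h.toMo.exists_ne
  obtain ⟨y, z, h1, -, h2, -, h3, -, -, h4⟩ := h.toMo.hyp2 (h.alt u) one_ne_zero
  obtain ⟨n, kn⟩ := ks u y u0 h1
  obtain ⟨n', kn'⟩ := ks u z u0 h2
  have := kn.mul h.toH1 h1 h2 kn'
  have p : P2 B u (y + z) := P2.iff.2 ⟨by rw [map_add, h1, h2, add_zero], u0,
    fun e => h4 (Submodule.span_mono (by simp) e)⟩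
  by_contra hκ
  refine hN.nc' h.toH1 p (fun e => hκ ?_) (isConj_iff.2 ⟨_, this.1⟩)
  rw [h3] at e
  linear_combination e - h.two

end Cfsg.Lib.SP7
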