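import Cfsg.Agent.SP7.A2
import Cfsg.Agent.SP7.GEN
import Cfsg.Agent.SP7.K1
import Cfsg.Agent.SP7.K2
import Cfsg.Agent.SP7.KIT
import Cfsg.Agent.SP7.P3k
import Cfsg.Agent.SP7.P4a

/-!
# Standard subgroups of type `Sp_{2k}(2ⁿ)`: a translation which is short for two points
-/

set_option autoImplicit false
set_option linter.unusedSectionVars false

namespace Cfsg.Lib.SP7

open Subgroup Module Cfsg.Lib.Trans Cfsg.Lib.Gold Cfsg.Lib.Class.Form Cfsg.Lib.Class.FAut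
open Cfsg.Lib.UM6 (tT tE VW RR Fx St QW Cf mp Semi fa Mp cx re Ot kk Mx Fr3)
open Cfsg.Lib.SG2 (Uq Top)
open Cfsg.Lib.Comp (Tw)
open scoped commutatorElement

variable {G F M : Type*} [Group G] [Finite G] [Field F] [Finite F] [AddCommGroup M] [Module F M]
  [FiniteDimensional F M] {B : M →ₗ[F] M →ₗ[F] F} {φ φ' : sIsom B →* G} {t : G} {κ β : F}

namespace P4b

theorem nQ {W : Submodule F M} {g v : sIsom B} (hg : g ∈ Fx B W) (hv : v ∈ QW B W) :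
    g * v * g⁻¹ ∈ QW B W :=
  mem_normalizer_conj (UM6.St_le_Ns (UM6.Fx_le_St hg)).1.2 hv

variable (F) in
theorem l2_comm (u w : M) : l2 F w u = l2 F u w := congrArg _ (Set.pair_comm w u)

theorem act (h : H3 φ t κ) {u w : M} (k : P2 B u w) {m : G} (km : KS φ t κ m u w 0) {g : sIsom B}
    (hg : g ∈ Fx B (l2 F u w)) : ∃ v ∈ QW B (l2 F u w), m⁻¹ * φ g * m = φ (g * v) := by
  have mo := h.toMo
  let S : Subgroup (sIsom B) :=
    { carrier := {g | g ∈ Fx B (l2 F u w) ∧ ∃ v ∈ QW B (l2 F u w), m⁻¹ * φ g * m = φ (g * v)}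
      one_mem' := ⟨one_mem _, 1, one_mem _, by simp⟩
      mul_mem' := by
        rintro a b ⟨ha, v, hv, e⟩ ⟨hb, v', hv', e'⟩
        refine ⟨mul_mem ha hb, b⁻¹ * v * b⁻¹⁻¹ * v', mul_mem (nQ (inv_mem hb) hv) hv', ?_⟩
        rw [show m⁻¹ * φ (a * b) * m = m⁻¹ * φ a * m * (m⁻¹ * φ b * m) by rw [map_mul]; group, e, e',
          ← map_mul]
        congr 1; group
      inv_mem' := by
        rintro a ⟨ha, v, hv, e⟩
        refine ⟨inv_mem ha, a * v⁻¹ * a⁻¹, nQ ha (inv_mem hv), ?_⟩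
        rw [show m⁻¹ * φ a⁻¹ * m = (m⁻¹ * φ a * m)⁻¹ by rw [map_inv]; group, e, ← map_inv]
        congr 1; group }
  refine (mo.gen_Fx (H := S) (mo.ti2 k.uw) (fun y hy => ?_) hg).2
  obtain ⟨h1, h2⟩ := mo.mem_orth2.1 hy
  obtain ⟨v, hv, e⟩ := h.kt' k km h1 h2 1
  exact ⟨mo.tT_mem_Fx hy 1, v, ⟨hv.2, fun x hx => Submodule.span_mono (by simp)
    (hv.1.2 x (mo.mem_orth1.2 (mo.mem_orth2.1 hx).1))⟩, e⟩

theorem fixT (h : H3 φ t κ) {u w : M} {m : G} (km : KS φ t κ m u w 0) :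
    m * φ (tT B u 1) * m⁻¹ = φ (tT B u 1) := by
  have := km.2 0 (map_zero _) 1
  rwa [map_zero, mul_zero, add_zero, h.toMo.ee_zero'] at this

theorem other (h : H3 φ t κ) {u w : M} (k : P2 B u w) {n n' : G} (kn : KS φ t κ n u w 0)
    (kn' : KS φ t κ n' w u 0) {α : MulAut (sIsom B)} (a : Mp φ φ (n⁻¹ * n') α) :
    α (tT B w 1) * tT B w 1 ∈ Qu B u := by
  have mo := h.toMo
  obtain ⟨v, hv, e⟩ := h.kt' k kn k.uw (mo.alt w) 1
  have e1 : α (tT B w 1) = tT B w 1 * v := h.inj (by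
    rw [← a, ← e, show n⁻¹ * n' * φ (tT B w 1) * (n⁻¹ * n')⁻¹ =
      n⁻¹ * (n' * φ (tT B w 1) * n'⁻¹) * n by group, fixT h kn'])
  have := nQ (mo.tT_mem_Fx (mo.mem_orth1.2 k.uw) 1) hv.1
  rwa [inv_eq_of_mul_eq_one_right (mo.tT_sq w 1), ← e1] at this

theorem cancel (h : H3 φ t κ) {x x' o o' : G} (hx : x ∈ AA φ t ⊤) (hx' : x' ∈ AA φ t ⊤)
    (ho : o ∈ Ot φ t) (ho' : o' ∈ Ot φ t) (e : x * o = x' * o') : x = x' := by
  have h1 : o * o'⁻¹ = x⁻¹ * x' := by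
    rw [eq_inv_mul_iff_mul_eq, ← mul_assoc, e, mul_inv_cancel_right]
  have h2 := h.toHyp.Ot_AA (mul_mem ho (inv_mem ho')) (h1 ▸ mul_mem (inv_mem hx) hx')
  exact inv_mul_eq_one.1 (h1.symm.trans h2)

end P4b

open P4b

theorem H3.both (h : H3 φ t κ) {u w : M} (k : P2 B u w) :
    ∃ n, KS φ t κ n u w 0 ∧ KS φ t κ n w u 0 := by
  have mo := h.toMo
  have k' := k.symm mo
  obtain ⟨n, kn⟩ := h.ks u w k.ne k.uw
  obtain ⟨n', kn'⟩ := h.ks w u k.ne' k'.uw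
  have ct : Commute (n'⁻¹ * n) t := by
    have e := kn.1
    rw [mo.ee_zero, mo.tE_comm k.uw, ← mo.ee_zero, ← kn'.1] at e
    rw [Commute, SemiconjBy, mul_assoc, mul_inv_eq_iff_eq_mul.1 e]; group
  obtain ⟨α, -, -, a, -⟩ := h.toHyp.semi ct
  obtain ⟨x, hx, y, hy, rfl⟩ := mo.act3 k (α := α) (fun y hy d => by
      have hT := mo.tT_mem_Fx hy d
      obtain ⟨v, hv, e⟩ := act h k (kn.inv h.toH1 k.uw) hT
      obtain ⟨v', hv', e'⟩ := act h k' kn' (g := tT B y d * v)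
        (by rw [l2_comm]; exact mul_mem hT (UM6.QW_le_Fx hv))
      rw [l2_comm] at hv'
      have e1 : α (tT B y d) = tT B y d * (v * v') := h.inj (by
        rw [← a, ← mul_assoc, ← e', ← e]; group)
      have := nQ hT (mul_mem hv hv')
      rwa [inv_eq_of_mul_eq_one_right (mo.tT_sq y d), ← e1] at this)
    (other h k' kn' kn a) (other h k kn kn' (by simpa using a.inv))
  obtain ⟨o, ho, e⟩ := h.toH1.dec' ct a
  have h1 := KS.mul h.toH1 k.uw (map_zero _) kn (KS.base h.toH1 k.ne (inv_mem hy) (one_mem _)).1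
  obtain ⟨h2, h3⟩ := KS.base (κ := κ) h.toH1 k.ne' hx ho
  have h2 := KS.mul h.toH1 k'.uw (map_zero _) kn' h2
  have h3 := KS.mul h.toH1 k'.uw (map_zero _) kn' h3
  simp only [add_zero, map_zero, mul_zero, mul_one] at h1 h2 h3
  have c := (Ot_comm ho y).eq
  refine ⟨_, h1, ?_⟩
  rcases e with e | e <;> rw [inv_mul_eq_iff_eq_mul.1 e, map_mul, map_inv]
  · rwa [mul_assoc (φ x), ← c, show n' * (φ x * (o * φ y)) * (φ y)⁻¹ = n' * (φ x * o) by group]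
  · rwa [mul_assoc t, mul_assoc (φ x), ← c,
      show n' * (t * (φ x * (o * φ y))) * (φ y)⁻¹ = n' * (t * φ x * o) by group]

theorem H3.both_uniq (h : H3 φ t κ) {u w : M} (k : P2 B u w) {n n' : G} (h1 : KS φ t κ n u w 0)
    (h2 : KS φ t κ n w u 0) (h1' : KS φ t κ n' u w 0) (h2' : KS φ t κ n' w u 0) :
    ∃ a : F, ∃ o ∈ Ot φ t, n' = n * φ (tE B u (a • w)) * o ∨ n' = n * t * φ (tE B u (a • w)) * o := by
  have mo := h.toMo
  obtain ⟨v, hv, o, ho, e⟩ := KS.uniq h.toH1 k.ne k.uw h1 h1'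
  obtain ⟨v', hv', o', ho', e'⟩ := KS.uniq h.toH1 k.ne' (k.symm mo).uw h2 h2'
  have m1 : ∀ v, φ v ∈ AA φ t ⊤ := fun v => h.toHyp.mem_AA.2 ⟨v, mem_top _, .inl rfl⟩
  have m2 : ∀ v, t * φ v ∈ AA φ t ⊤ := fun v => h.toHyp.mem_AA.2 ⟨v, mem_top _, .inr rfl⟩
  have ev : v = v' := by
    simp only [mul_assoc n] at e e'
    rcases e with e | e <;> rcases e' with e' | e' <;> have e1 := mul_left_cancel (e.symm.trans e')
    · exact h.inj (cancel h (m1 _) (m1 _) ho ho' e1)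
    · exact absurd (cancel h (m1 _) (m2 _) ho ho' e1).symm (h.toHyp.t_ne _ _)
    · exact absurd (cancel h (m2 _) (m1 _) ho ho' e1) (h.toHyp.t_ne _ _)
    · exact h.inj (mul_left_cancel (cancel h (m2 _) (m2 _) ho ho' e1))
  obtain ⟨a, ea⟩ := (mo.Q_inf_Q k).1 ⟨hv, ev ▸ hv'⟩
  exact ⟨a, o, ho, ea ▸ e⟩

end Cfsg.Lib.SP7
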