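import Cfsg.Agent.SP7.K1
import Cfsg.Agent.SP7.K2
import Cfsg.Agent.SP7.K4
import Cfsg.Agent.SP7.KIT
import Cfsg.Agent.SP7.P3k
import Cfsg.Agent.SP7.P4d

/-! Standard `Sp_{2k}(2ⁿ)`: an equivariant family of short translations. -/

set_option autoImplicit false
set_option linter.unusedSectionVars false

namespace Cfsg.Lib.SP7

open Subgroup Module Cfsg.Lib.Trans Cfsg.Lib.Gold Cfsg.Lib.Class.Form Cfsg.Lib.Class.FAut
open Cfsg.Lib.UM6 (tT tE VW RR Fx St QW Cf mp Semi fa Mp cx re Ot kk Mx Fr3)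
open Cfsg.Lib.SG2 (Uq Top)
open Cfsg.Lib.Comp (Tw)
open scoped commutatorElement

variable {G F M : Type*} [Group G] [Finite G] [Field F] [Finite F] [AddCommGroup M] [Module F M]
  [FiniteDimensional F M] {B : M →ₗ[F] M →ₗ[F] F} {φ φ' : sIsom B →* G} {t : G}
variable {κ β : F}

namespace P5a

theorem fam0 (h : H1 φ t) {a0 : G} {u0 w0 : M} (k0 : P2 B u0 w0) (s : SH φ t κ a0 u0 w0) :
    ∃ H : M → M → G, (∀ u w, P2 B u w → SH φ t κ (H u w) u w) ∧
      ∀ g u w, P2 B u w → φ g * H u w * (φ g)⁻¹ = H (lin g u) (lin g w) := by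
  classical
  let H : M → M → G := fun u w =>
    if e : ∃ g : sIsom B, lin g u0 = u ∧ lin g w0 = w then φ e.choose * a0 * (φ e.choose)⁻¹ else 1
  have key : ∀ g : sIsom B, H (lin g u0) (lin g w0) = φ g * a0 * (φ g)⁻¹ := fun g => by
    have e : ∃ g' : sIsom B, lin g' u0 = lin g u0 ∧ lin g' w0 = lin g w0 := ⟨g, rfl, rfl⟩
    have e1 := e.choose_spec
    simp only [H, dif_pos e]
    generalize e.choose = g' at e1
    have e2 : g⁻¹ * g' ∈ Fx B (l2 F u0 w0) := mem_Fx2.2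
      ⟨by rw [lin_mul, e1.1, lin_inv_lin], by rw [lin_mul, e1.2, lin_inv_lin]⟩
    have e3 := mem_Cs.1 s.cF _ (mem_map_of_mem φ e2)
    rw [map_mul, map_inv] at e3
    calc φ g' * a0 * (φ g')⁻¹ = φ g * ((φ g)⁻¹ * φ g' * a0) * (φ g')⁻¹ := by group
      _ = _ := by rw [e3]; group
  refine ⟨H, fun u w k => ?_, fun g u w k => ?_⟩
  · obtain ⟨g, rfl, rfl⟩ := h.toMo.tr2 k0 k
    rw [key]
    exact s.cj h k0.uw g
  · obtain ⟨g', rfl, rfl⟩ := h.toMo.tr2 k0 k
    rw [← lin_mul, ← lin_mul, key, key, map_mul]; group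

theorem step (h : H3 φ t κ) {H : M → M → G} (h1 : ∀ u w, P2 B u w → SH φ t κ (H u w) u w)
    (h2 : ∀ g u w, P2 B u w → φ g * H u w * (φ g)⁻¹ = H (lin g u) (lin g w)) {u x y : M}
    (k : P3 B u x y) {q : sIsom B} (hq : q ∈ Qu B u) {o : G} (ho : o ∈ Ot φ t)
    (e : H u (x + y) = H u x * H u y * φ q * o) : ∃ a b c : F, ∀ u x y, P3 B u x y →
      H u (x + y) = H u x * H u y * φ (ee B u (a • x + b • y) c) := by
  have m := h.toMo
  obtain ⟨k1, k2, -, k4⟩ := k.p2 m
  have ti := k.toO3.ti m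
  have mu : u ∈ Submodule.span F {u, x, y} := Submodule.subset_span (by simp)
  have mx : x ∈ Submodule.span F {u, x, y} := Submodule.subset_span (by simp)
  have my : y ∈ Submodule.span F {u, x, y} := Submodule.subset_span (by simp)
  have qV : q ∈ VW B (Submodule.span F {u, x, y}) := by
    rw [← m.Cs_Fx ti]
    refine mem_Cs.2 fun g hg => h.toMod.comm.1 ?_
    have c : ∀ z ∈ Submodule.span F {u, x, y}, P2 B u z → Commute (φ g) (H u z) := fun z hz kz => by
      have := h2 g u z kz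
      rw [hg u mu, hg z hz] at this
      exact mul_inv_eq_iff_eq_mul.1 this
    have e1 : φ q = (H u x * H u y)⁻¹ * H u (x + y) * o⁻¹ := by rw [e]; group
    rw [e1]
    exact ((((c x mx k1).mul_right (c y my k2)).inv_right).mul_right
      (c _ (add_mem mx my) k4)).mul_right (Ot_comm ho g).symm.inv_right
  obtain ⟨z, hz, c, rfl⟩ := (m.Q_inf_V k1.ne ti mu).1 ⟨hq, qV⟩
  obtain ⟨r, z', hz', rfl⟩ := Submodule.mem_span_insert.1 hz
  obtain ⟨a, b, rfl⟩ := Submodule.mem_span_pair.1 hz'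
  have o1 : ∀ {u x y : M}, P3 B u x y → B u (a • x + b • y) = 0 := fun k => by
    rw [map_add, map_smul, map_smul, k.uw, k.ux, smul_zero, smul_zero, add_zero]
  rw [add_comm (r • u), m.ee_add_self (o1 k)] at e
  have all : ∀ u x y, P3 B u x y →
      H u (x + y) = H u x * H u y * φ (ee B u (a • x + b • y) c) * o := fun u' x' y' k' => by
    obtain ⟨g, rfl, rfl, rfl⟩ := m.tr3 k k'
    rw [← map_smul, ← map_smul, ← map_add, ← map_add, ← h2 g _ _ k4, ← h2 g _ _ k1, ← h2 g _ _ k2,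
      ← m.ee_conj g (o1 k), e, map_mul, map_mul, map_inv]
    have := (Ot_comm ho g).inv_right.eq
    calc _ = φ g * (H u x * H u y * φ (ee B u (a • x + b • y) c)) * (o * (φ g)⁻¹) := by group
      _ = _ := by rw [this]; group
  have k5 : P3 B u x (x + y) := by simpa [add_comm] using k.add m 0 1
  have e2 := all _ _ _ k5
  obtain ⟨s, hs⟩ := (h1 u x k1).sq h k1
  have c1 : φ (tE B u (s • x)) * H u y = H u y * φ (tE B u (s • x)) :=
    mem_Cs.1 (h1 u y k2).cF _ (mem_map_of_mem φ (m.tE_mem_Fx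
      (by rw [map_smul, k.uw, smul_zero]) (m.mem_orth2.2 ⟨m.alt u, m.swap k.ux⟩)
      (m.mem_orth2.2 ⟨by rw [map_smul, k.uw, smul_zero],
        by rw [map_smul, m.swap k.wx, smul_zero]⟩)))
  rw [← add_assoc, m.vadd_self, zero_add, e] at e2
  generalize ee B u (a • x + b • y) c = p at e2
  generalize ee B u (a • x + b • (x + y)) c = p' at e2
  have e3 : o * o = φ (tE B u (s • x) * p * p')⁻¹ := by
    have c2 := (Ot_comm ho p').eq
    have : H u y = H u y * (φ (tE B u (s • x) * p * p') * (o * o)) := by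
      calc H u y = H u x * H u x * H u y * φ p * (o * φ p') * o := by
            conv_lhs => rw [e2]
            group
        _ = _ := by rw [hs, c1, c2, map_mul, map_mul]; group
    rw [map_inv]
    exact eq_inv_of_mul_eq_one_right (left_eq_mul.1 this)
  have e4 : o = 1 := Ot_sq ho (h.toHyp.Ot_AA (mul_mem ho ho)
    (e3 ▸ mem_sup_right (mem_map_of_mem φ (mem_top _))))
  exact ⟨a, b, c, fun u x y k => by rw [all u x y k, e4, mul_one]⟩

end P5a

open P5a in
theorem H4.fam (h : H4 φ t κ) : ∃ (H : M → M → G) (a b c : F),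
    (∀ u w, P2 B u w → SH φ t κ (H u w) u w) ∧
    (∀ g u w, P2 B u w → φ g * H u w * (φ g)⁻¹ = H (lin g u) (lin g w)) ∧
    ∀ u x y, P3 B u x y → H u (x + y) = H u x * H u y * φ (ee B u (a • x + b • y) c) := by
  have m := h.toMo
  obtain ⟨u, u0⟩ := m.exists_ne
  obtain ⟨x, k1⟩ := m.ext2 u0
  obtain ⟨y, k⟩ := m.ext3 k1
  obtain ⟨a0, s⟩ := h.sh u x k1
  obtain ⟨H, h1, h2⟩ := fam0 h.toH1 k1 s
  obtain ⟨-, k2, -, k4⟩ := k.p2 m
  have s1 := (h1 u x k1).ku.mul h.toH1 k.uw k.ux (h1 u y k2).ku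
  rw [k.wx, mul_zero, add_zero, add_zero] at s1
  obtain ⟨q, hq, o, ho, e | e⟩ := s1.uniq h.toH1 u0 k4.uw (h1 _ _ k4).ku
  · obtain ⟨a, b, c, e'⟩ := step h.toH3 h1 h2 k hq ho e
    exact ⟨H, a, b, c, h1, h2, e'⟩
  · have g1 : ∀ u w, P2 B u w → SH φ t κ (H u w * t) u w := fun u w k => (h1 u w k).mul_t h.toH3 k
    have g2 : ∀ g u w, P2 B u w → φ g * (H u w * t) * (φ g)⁻¹ = H (lin g u) (lin g w) * t :=
      fun g u w k => by
        rw [← h2 g u w k, mul_assoc, mul_assoc, (h.tc g).inv_right.eq]; group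
    have e1 := ((h1 u y k2).ku.inv h.toH1 k.ux).1
    obtain ⟨a, b, c, e'⟩ := step h.toH3 (H := fun u w => H u w * t) g1 g2 k
      (mul_mem (inv_mem (m.ee_mem_Q k.ux 0)) hq) ho (by
        have c1 := (h.tc q).eq
        have c2 : o * t = t * o := mem_Cs.1 t_mem_Cs_Ot o ho
        have c3 := (h.tc (ee B u y 0)).eq
        rw [map_mul, map_inv]
        calc H u (x + y) * t = H u x * H u y * (t * φ q) * (o * t) := by rw [e]; group
          _ = H u x * H u y * φ q * (t * t) * o := by rw [c1, c2]; group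
          _ = H u x * H u y * (t * t) * φ q * o := by rw [h.t2]; group
          _ = H u x * H u y * (t * φ (ee B u y 0)) * t * (φ (ee B u y 0))⁻¹ * φ q * o := by
            rw [mul_assoc _ (t * φ _) t, mul_assoc t (φ _) t, ← c3]; group
          _ = _ := by rw [← e1]; group)
    exact ⟨_, a, b, c, g1, g2, e'⟩

end Cfsg.Lib.SP7
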