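import Cfsg.Agent.SP7.GEN
import Cfsg.Agent.SP7.K1
import Cfsg.Agent.SP7.K3
import Cfsg.Agent.SP7.K4
import Cfsg.Agent.SP7.LIFT

/-!
# Standard subgroups of type `Sp_{2k}(2ⁿ)`: normal elementary abelian subgroups of `Fx ℓ`
-/

set_option autoImplicit false
set_option linter.unusedSectionVars false
set_option linter.unusedVariables false

namespace Cfsg.Lib.SP7

open Subgroup Module Cfsg.Lib.Trans Cfsg.Lib.Gold Cfsg.Lib.Class.Form Cfsg.Lib.Class.FAut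
open Cfsg.Lib.UM6 (tT tE VW RR Fx St QW Cf mp Semi fa Mp cx re Ot kk Mx Fr3)
open Cfsg.Lib.SG2 (Uq Top)
open Cfsg.Lib.Comp (Tw)
open scoped commutatorElement

variable {F M : Type*} [Field F] [Finite F] [AddCommGroup M] [Module F M] [FiniteDimensional F M]
  {B : M →ₗ[F] M →ₗ[F] F}

theorem SUB.compl (h : Mo B) {u w : M} (k : P2 B u w) {p : M} (p0 : p ≠ 0) (hp : p ∈ l2 F u w) :
    ∃ w', P2 B p w' ∧ l2 F p w' = l2 F u w := by
  have ti := h.ti2 k.uw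
  have hu : u ∈ l2 F u w := Submodule.subset_span (by simp)
  have hw : w ∈ l2 F u w := Submodule.subset_span (by simp)
  obtain ⟨x, hx, hn⟩ : ∃ x ∈ l2 F u w, x ∉ F ∙ p := by
    by_contra hc
    push Not at hc
    obtain ⟨a, ha⟩ := Submodule.mem_span_singleton.1 (hc u hu)
    have a0 : a ≠ 0 := by
      rintro rfl
      exact k.ne (by rw [← ha, zero_smul])
    exact k.not_mem (by rw [← ha, span_smul1 p a0]; exact hc w hw)
  have k' : P2 B p x := P2.iff.2 ⟨ti p hp x hx, p0, hn⟩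
  exact ⟨x, k', Submodule.eq_of_le_of_finrank_eq (Submodule.span_le.2 (by
    rintro y (rfl | rfl)
    exacts [hp, hx])) (k'.rank.trans k.rank.symm)⟩

theorem Mo.subm (h : Mo B) {u w : M} (k : P2 B u w) {N : Subgroup (sIsom B)}
    (h1 : ∀ a ∈ N, a * a = 1) (h2 : N ≤ Fx B (l2 F u w)) (h3 : Fx B (l2 F u w) ≤ Ns N) :
    ∃ u' w', P2 B u' w' ∧ l2 F u' w' = l2 F u w ∧ N ≤ BV B u' w' := by
  have ti := h.ti2 k.uw
  have hQ := h.O2 ti (isPGroup_of_sq h1) h2 h3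
  have s1 : ∀ g ∈ N, ∀ z ∈ orth B (l2 F u w), z ∉ l2 F u w → ∀ z' ∈ orth B (l2 F u w),
      z' ∉ l2 F u w → ee B (lin g z - z) z' 1 ∈ N := fun g hg z hz hn z' hz' hn' => by
    have hp := (hQ hg).2 z hz
    have e0 : B (lin g z - z) z = 0 := mem_orth.1 hz _ hp
    have e1 := mul_mem (mem_normalizer_conj (h3 (h.tT_mem_Fx hz 1)) hg) (inv_mem hg)
    have e2 := h.tT_shift e0 1
    rw [one_smul, one_smul, mul_one, add_sub_cancel, ← h.tT_conj] at e2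
    rw [inv_eq_of_mul_eq_one_right (h.tT_sq z 1), mul_assoc, mul_assoc, ← mul_assoc g, e2,
      ← mul_assoc, h.tT_sq, one_mul] at e1
    obtain ⟨g', hg', rfl⟩ := h.trF ti hz hn hz' hn'
    have e3 := mem_normalizer_conj (h3 hg') e1
    rwa [h.ee_conj g' e0, hg' _ hp] at e3
  have s2 : ∀ g ∈ N, ∀ z ∈ orth B (l2 F u w), lin g z - z ≠ 0 → ∀ g' ∈ N,
      ∀ z' ∈ orth B (l2 F u w), lin g' z' - z' ∈ F ∙ (lin g z - z) :=
    fun g hg z hz p0 g' hg' z' hz' => by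
      by_cases hn' : z' ∈ l2 F u w
      · rw [h2 hg' z' hn', sub_self]
        exact zero_mem _
      have hn : z ∉ l2 F u w := fun hn => p0 (by rw [h2 hg z hn, sub_self])
      obtain ⟨x, y, x1, x2, y1, y2, xy, hx, hy, -⟩ := h.hyp2 k.uw one_ne_zero
      have ox := h.mem_orth2.2 ⟨x1, x2⟩
      have oy := h.mem_orth2.2 ⟨y1, y2⟩
      have ha := s1 g hg z hz hn x ox hx
      have hb := s1 g' hg' z' hz' hn' y oy hy
      have hp := (hQ hg).2 z hz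
      have hp' := (hQ hg').2 z' hz'
      have := (h.comm_ee p0 (mem_orth.1 ox _ hp) (h2 hb _ hp) 1).1 (comm_of_sq h1 _ hb _ ha)
      rwa [h.lin_ee (mem_orth.1 oy _ hp'), mem_orth.1 ox _ hp', h.symm y x, xy, zero_smul, add_zero,
        mul_zero, add_zero, one_smul, add_right_comm, h.vadd_self, zero_add] at this
  obtain ⟨p, p0, hp, e⟩ : ∃ p, p ≠ 0 ∧ p ∈ l2 F u w ∧ ∀ g ∈ N, ∀ z ∈ orth B (l2 F u w),
      lin g z - z ∈ F ∙ p := by
    by_cases hc : ∃ g ∈ N, ∃ z ∈ orth B (l2 F u w), lin g z - z ≠ 0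
    · obtain ⟨g, hg, z, hz, p0⟩ := hc
      exact ⟨_, p0, (hQ hg).2 z hz, s2 g hg z hz p0⟩
    · push Not at hc
      exact ⟨u, k.ne, Submodule.subset_span (by simp), fun g hg z hz => hc g hg z hz ▸ zero_mem _⟩
  obtain ⟨w', k', e'⟩ := SUB.compl h k p0 hp
  exact ⟨p, w', k', e', fun g hg => (h.mem_BV' k').2 (e' ▸ ⟨h2 hg, e g hg⟩)⟩

end Cfsg.Lib.SP7
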